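import Mathlib

set_option autoImplicit false

/-!
Semisimple endomorphisms (of finite order prime to the characteristic) with the same characteristic
polynomial are conjugate.

* `exists_embedding`: for an irreducible factor `π` of the characteristic polynomial of `A` there is an
  injective map `F[X]/(π) → V` which intertwines multiplication by `X` and `A`;
* `exists_split`: if moreover `A ^ N = 1`, `N ≠ 0` in `F`, then `(V, A) ≅ (F[X]/(π), X) × (W, A')`;
* `exists_conj`: the theorem, for endomorphisms of vector spaces;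
* `mat_isConj`: matrix form.
-/

namespace Cfsg.Agent.H176.SSConj

open Polynomial Module

universe u v w

variable {F : Type u} [Field F]

/-- Multiplication by the root. -/
noncomputable def mulRoot (π : F[X]) : AdjoinRoot π →ₗ[F] AdjoinRoot π :=
  LinearMap.mulLeft F (AdjoinRoot.root π)

theorem mulRoot_apply (π : F[X]) (a : AdjoinRoot π) : mulRoot π a = AdjoinRoot.root π * a := rfl

section

variable {V : Type v} [AddCommGroup V] [Module F V] [FiniteDimensional F V]

/-- An irreducible factor of the characteristic polynomial annihilates a non-zero vector. -/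
theorem exists_aeval_eq_zero (A : End F V) {π : F[X]} (hπ : Irreducible π)
    (hdvd : π ∣ A.charpoly) : ∃ v : V, v ≠ 0 ∧ aeval A π v = 0 := by
  classical
  let b := Module.Free.chooseBasis F V
  let M := LinearMap.toMatrix b b A
  have hM : M.charpoly = A.charpoly := LinearMap.charpoly_toMatrix A b
  -- a root in the algebraic closure
  let K := AlgebraicClosure F
  obtain ⟨l, hl⟩ := IsAlgClosed.exists_aeval_eq_zero K π (degree_pos_of_irreducible hπ).ne'
  let MK := M.map (algebraMap F K)
  have hroot : IsRoot MK.charpoly l := by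
    rw [Matrix.charpoly_map, hM]
    obtain ⟨g, hg⟩ := hdvd
    rw [IsRoot, eval_map_algebraMap, hg, map_mul, hl, zero_mul]
  have heig : Module.End.HasEigenvalue (Matrix.toLin' MK) l := by
    rw [Module.End.hasEigenvalue_iff_isRoot_charpoly, Matrix.charpoly_toLin']
    exact hroot
  obtain ⟨w, hw⟩ := heig.exists_hasEigenvector
  have hdet : (aeval MK π).det = 0 := by
    rw [← Matrix.exists_mulVec_eq_zero_iff]
    refine ⟨w, hw.2, ?_⟩
    have h1 : aeval (Matrix.toLin' MK) π w = (eval l (π.map (algebraMap F K))) • w := by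
      have h2 := Module.End.aeval_apply_of_hasEigenvector (p := π.map (algebraMap F K)) hw
      rw [aeval_map_algebraMap] at h2
      exact h2
    rw [eval_map_algebraMap, hl, zero_smul] at h1
    have h3 : aeval (Matrix.toLin' MK) π = Matrix.toLin' (aeval MK π) := by
      have h4 := aeval_algHom_apply ((Matrix.toLinAlgEquiv' (R := K) (n := Module.Free.ChooseBasisIndex F V)).toAlgHom.restrictScalars F) MK π
      exact h4
    rw [h3, Matrix.toLin'_apply] at h1
    exact h1
  have hdet2 : (aeval M π).det = 0 := by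
    have h1 : (aeval M π).map (algebraMap F K) = aeval MK π := by
      have h2 := aeval_algHom_apply ((Algebra.ofId F K).mapMatrix (m := Module.Free.ChooseBasisIndex F V)) M π
      exact h2.symm
    have h3 : algebraMap F K (aeval M π).det = 0 := by
      rw [RingHom.map_det, RingHom.mapMatrix_apply, h1, hdet]
    exact (map_eq_zero _).1 h3
  rw [← Matrix.exists_mulVec_eq_zero_iff] at hdet2
  obtain ⟨x, hx0, hx⟩ := hdet2
  refine ⟨b.equivFun.symm x, ?_, ?_⟩
  · intro h
    exact hx0 ((LinearEquiv.map_eq_zero_iff _).1 h)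
  · have h1 : LinearMap.toMatrix b b (aeval A π) = aeval M π := by
      have h2 := aeval_algHom_apply (LinearMap.toMatrixAlgEquiv b).toAlgHom A π
      exact h2.symm
    have h3 : aeval A π = Matrix.toLin b b (aeval M π) := by
      rw [← h1, Matrix.toLin_toMatrix]
    rw [h3, Matrix.toLin_apply]
    have h5 : ⇑(b.repr (b.equivFun.symm x)) = x := by
      rw [← b.equivFun_apply, LinearEquiv.apply_symm_apply]
    rw [h5, hx]
    simp

/-- The cyclic submodule generated by such a vector. -/
theorem exists_embedding (A : End F V) {π : F[X]} (hπ : Irreducible π)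
    (hdvd : π ∣ A.charpoly) : ∃ φ : AdjoinRoot π →ₗ[F] V, Function.Injective φ ∧
      ∀ a, φ (mulRoot π a) = A (φ a) := by
  obtain ⟨v, hv0, hv⟩ := exists_aeval_eq_zero A hπ hdvd
  have : Fact (Irreducible π) := ⟨hπ⟩
  -- the map `p ↦ p(A) v` on polynomials
  let ψ : F[X] →ₗ[F] V := (LinearMap.applyₗ v).comp (aeval A).toLinearMap
  have hψ : ∀ p, ψ p = aeval A p v := fun p => rfl
  have hker : (Ideal.span {π} : Ideal F[X]).restrictScalars F ≤ LinearMap.ker ψ := by
    intro p hp
    rw [Submodule.restrictScalars_mem, Ideal.mem_span_singleton] at hp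
    obtain ⟨g, rfl⟩ := hp
    rw [LinearMap.mem_ker, hψ, mul_comm, map_mul, Module.End.mul_apply, hv, map_zero]
  let φ : AdjoinRoot π →ₗ[F] V := Submodule.liftQ ((Ideal.span {π} : Ideal F[X]).restrictScalars F) ψ hker
  have hφ : ∀ p : F[X], φ (AdjoinRoot.mk π p) = aeval A p v := fun p => rfl
  refine ⟨φ, ?_, ?_⟩
  · rw [injective_iff_map_eq_zero]
    intro a ha
    obtain ⟨p, rfl⟩ := AdjoinRoot.mk_surjective a
    rw [hφ] at ha
    by_contra hne
    have hndvd : ¬ π ∣ p := fun h => hne (AdjoinRoot.mk_eq_zero.2 h)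
    have hcop : IsCoprime π p := (hπ.coprime_iff_not_dvd).2 hndvd
    obtain ⟨r, s, hrs⟩ := hcop
    apply hv0
    have h1 := congrArg (fun t => aeval A t v) hrs
    simp only [map_add, map_mul, map_one, LinearMap.add_apply, Module.End.mul_apply, hv, ha,
      map_zero, add_zero, Module.End.one_apply] at h1
    exact h1.symm
  · intro a
    obtain ⟨p, rfl⟩ := AdjoinRoot.mk_surjective a
    rw [mulRoot_apply, AdjoinRoot.root, ← map_mul, hφ, hφ, map_mul, aeval_X, Module.End.mul_apply]

omit [FiniteDimensional F V] in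
theorem isSemisimple_of_pow (A : End F V) {N : ℕ} (hA : A ^ N = 1) (hN : (N : F) ≠ 0) :
    A.IsSemisimple := by
  have hsep : (X ^ N - C (1 : F) : F[X]).Separable := separable_X_pow_sub_C 1 hN one_ne_zero
  refine Module.End.isSemisimple_of_squarefree_aeval_eq_zero hsep.squarefree ?_
  rw [map_sub, map_pow, aeval_X, aeval_C, map_one, hA, sub_self]

/-- Splitting off a cyclic summand. -/
theorem exists_split (A : End F V) {N : ℕ} (hA : A ^ N = 1) (hN : (N : F) ≠ 0) {π : F[X]}
    (hπ : Irreducible π) (hdvd : π ∣ A.charpoly) :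
    ∃ (W : Submodule F V) (A' : End F W) (e : (AdjoinRoot π × W) ≃ₗ[F] V), A' ^ N = 1 ∧
      ∀ x, e ((mulRoot π).prodMap A' x) = A (e x) := by
  obtain ⟨φ, hφ, hφA⟩ := exists_embedding A hπ hdvd
  have hss := isSemisimple_of_pow A hA hN
  rw [Module.End.isSemisimple_iff] at hss
  obtain ⟨W, hW, hcompl⟩ := hss (LinearMap.range φ) (by
    rw [Module.End.mem_invtSubmodule]
    rintro _ ⟨a, rfl⟩
    exact ⟨mulRoot π a, hφA a⟩)
  rw [Module.End.mem_invtSubmodule] at hW
  let A' : End F W := A.restrict hW
  let e : (AdjoinRoot π × W) ≃ₗ[F] V :=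
    ((LinearEquiv.ofInjective φ hφ).prodCongr (LinearEquiv.refl F W)).trans
      (Submodule.prodEquivOfIsCompl _ _ hcompl)
  have he : ∀ a w, e (a, w) = φ a + w := by
    intro a w
    simp only [e, LinearEquiv.trans_apply, LinearEquiv.prodCongr_apply, LinearEquiv.refl_apply,
      Submodule.coe_prodEquivOfIsCompl', LinearEquiv.ofInjective_apply]
  refine ⟨W, A', e, ?_, ?_⟩
  · ext w
    have h1 : ∀ k : ℕ, ∀ w : W, (((A' ^ k) w : W) : V) = (A ^ k) (w : V) := by
      intro k
      induction k with
      | zero => intro w; rfl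
      | succ k ih =>
        intro w
        rw [pow_succ, pow_succ, Module.End.mul_apply, Module.End.mul_apply, ih]
        rfl
    rw [h1, hA]
    rfl
  · rintro ⟨a, w⟩
    rw [LinearMap.prodMap_apply, he, he, map_add, hφA]
    rfl

end

theorem finrank_adjoinRoot_pos {π : F[X]} (hπ : Irreducible π) :
    0 < finrank F (AdjoinRoot π) ∧ FiniteDimensional F (AdjoinRoot π) := by
  have : Fact (Irreducible π) := ⟨hπ⟩
  have hfin : FiniteDimensional F (AdjoinRoot π) := (AdjoinRoot.powerBasis hπ.ne_zero).finite
  exact ⟨finrank_pos, hfin⟩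

/-- **Endomorphisms of finite order prime to the characteristic with the same characteristic
polynomial are conjugate.** -/
theorem exists_conj {N : ℕ} (hN : (N : F) ≠ 0) (n : ℕ) :
    ∀ {V : Type v} {W : Type w} [AddCommGroup V] [Module F V] [FiniteDimensional F V]
      [AddCommGroup W] [Module F W] [FiniteDimensional F W] (A : End F V) (B : End F W),
      finrank F V ≤ n → A ^ N = 1 → B ^ N = 1 → A.charpoly = B.charpoly →
      ∃ e : V ≃ₗ[F] W, ∀ v, e (A v) = B (e v) := by
  induction n with
  | zero =>
    intro V W _ _ _ _ _ _ A B hV hA hB hAB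
    have h1 : finrank F V = finrank F W := by
      rw [← A.charpoly_natDegree, ← B.charpoly_natDegree, hAB]
    have hV0 : finrank F V = 0 := by omega
    have hsV : Subsingleton V := finrank_zero_iff.1 hV0
    have hsW : Subsingleton W := finrank_zero_iff.1 (h1 ▸ hV0)
    exact ⟨LinearEquiv.ofFinrankEq V W h1, fun v => Subsingleton.elim _ _⟩
  | succ n ih =>
    intro V W _ _ _ _ _ _ A B hV hA hB hAB
    have h1 : finrank F V = finrank F W := by
      rw [← A.charpoly_natDegree, ← B.charpoly_natDegree, hAB]
    by_cases h0 : finrank F V = 0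
    · have hsV : Subsingleton V := finrank_zero_iff.1 h0
      have hsW : Subsingleton W := finrank_zero_iff.1 (h1 ▸ h0)
      exact ⟨LinearEquiv.ofFinrankEq V W h1, fun v => Subsingleton.elim _ _⟩
    · have hdeg : 0 < A.charpoly.degree := by
        rw [degree_eq_natDegree A.charpoly_monic.ne_zero, A.charpoly_natDegree]
        exact_mod_cast Nat.pos_of_ne_zero h0
      obtain ⟨π, hπ, hdvd⟩ := WfDvdMonoid.exists_irreducible_factor
        (not_isUnit_of_degree_pos _ hdeg) A.charpoly_monic.ne_zero
      obtain ⟨V', A', e, hA', he⟩ := exists_split A hA hN hπ hdvd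
      obtain ⟨W', B', f, hB', hf⟩ := exists_split B hB hN hπ (hAB ▸ hdvd)
      obtain ⟨hpos, hfin⟩ := finrank_adjoinRoot_pos hπ
      have hcA : (mulRoot π).charpoly * A'.charpoly = A.charpoly := by
        rw [← LinearMap.charpoly_prodMap, ← LinearEquiv.charpoly_conj e]
        congr 1
        ext v
        rw [LinearEquiv.conj_apply_apply, he, LinearEquiv.apply_symm_apply]
      have hcB : (mulRoot π).charpoly * B'.charpoly = B.charpoly := by
        rw [← LinearMap.charpoly_prodMap, ← LinearEquiv.charpoly_conj f]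
        congr 1
        ext v
        rw [LinearEquiv.conj_apply_apply, hf, LinearEquiv.apply_symm_apply]
      have hcc : A'.charpoly = B'.charpoly := by
        apply mul_left_cancel₀ (mulRoot π).charpoly_monic.ne_zero
        rw [hcA, hcB, hAB]
      have hdim : finrank F V' ≤ n := by
        have h2 := e.finrank_eq
        rw [finrank_prod] at h2
        omega
      obtain ⟨g, hg⟩ := ih A' B' hdim hA' hB' hcc
      refine ⟨e.symm.trans (((LinearEquiv.refl F _).prodCongr g).trans f), ?_⟩
      intro v
      obtain ⟨⟨a, v'⟩, rfl⟩ := e.surjective v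
      rw [← he]
      simp only [LinearEquiv.trans_apply, LinearEquiv.symm_apply_apply]
      rw [← hf]
      congr 1
      simp only [LinearMap.prodMap_apply, LinearEquiv.prodCongr_apply, LinearEquiv.refl_apply, hg]

/-- **Matrix form.** -/
theorem mat_isConj {ι : Type*} [Fintype ι] [DecidableEq ι] {N : ℕ} (hN : (N : F) ≠ 0)
    {A B : Matrix ι ι F} (hA : A ^ N = 1) (hB : B ^ N = 1) (h : A.charpoly = B.charpoly) :
    ∃ P : GL ι F, (P : Matrix ι ι F) * A = B * P := by
  obtain ⟨e, he⟩ := exists_conj hN _ (Matrix.toLin' A) (Matrix.toLin' B) le_rfl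
    (by rw [← Matrix.toLin'_pow, hA]; exact Matrix.toLin'_one)
    (by rw [← Matrix.toLin'_pow, hB]; exact Matrix.toLin'_one)
    (by rw [Matrix.charpoly_toLin', Matrix.charpoly_toLin', h])
  refine ⟨⟨LinearMap.toMatrix' e.toLinearMap, LinearMap.toMatrix' e.symm.toLinearMap, ?_, ?_⟩, ?_⟩
  · rw [← LinearMap.toMatrix'_comp, LinearEquiv.comp_coe, LinearEquiv.symm_trans_self]
    exact LinearMap.toMatrix'_id
  · rw [← LinearMap.toMatrix'_comp, LinearEquiv.comp_coe, LinearEquiv.self_trans_symm]
    exact LinearMap.toMatrix'_id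
  · change LinearMap.toMatrix' e.toLinearMap * A = B * LinearMap.toMatrix' e.toLinearMap
    have h1 : e.toLinearMap ∘ₗ Matrix.toLin' A = Matrix.toLin' B ∘ₗ e.toLinearMap :=
      LinearMap.ext he
    have h2 := congrArg LinearMap.toMatrix' h1
    rw [LinearMap.toMatrix'_comp, LinearMap.toMatrix'_comp, LinearMap.toMatrix'_toLin',
      LinearMap.toMatrix'_toLin'] at h2
    exact h2

end Cfsg.Agent.H176.SSConj
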