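import Mathlib
import Cfsg.Agent.H176.SSConj

set_option autoImplicit false

/-!
The centraliser of a matrix of finite order prime to the characteristic over a finite field contains
elements of every determinant; consequences for `SL_n`.

* `exists_det`: linear algebra form;
* `mat_exists_det`: matrix form;
* `sl_isConj`: two elements of `SL_n(F)` of finite order prime to the characteristic with the same
  characteristic polynomial are conjugate in `SL_n(F)`;
* `exists_pow_coprime`: some power `g ^ (q ^ k)` has order prime to `p` (and the same characteristic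
  polynomial: `charpoly_pow_card_pow`).
-/

namespace Cfsg.Agent.H176.SSDet

open Polynomial Module

universe u v

variable {F : Type u} [Field F] [Finite F]

theorem exists_det {V : Type v} [AddCommGroup V] [Module F V] [FiniteDimensional F V] (A : End F V)
    {N : ℕ} (hA : A ^ N = 1) (hN : (N : F) ≠ 0) (hV : 0 < finrank F V) (c : F) :
    ∃ Y : End F V, Y * A = A * Y ∧ LinearMap.det Y = c := by
  have hdeg : 0 < A.charpoly.degree := by
    rw [degree_eq_natDegree A.charpoly_monic.ne_zero, A.charpoly_natDegree]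
    exact_mod_cast hV
  obtain ⟨π, hπ, hdvd⟩ := WfDvdMonoid.exists_irreducible_factor
    (not_isUnit_of_degree_pos _ hdeg) A.charpoly_monic.ne_zero
  obtain ⟨W, A', e, hA', he⟩ := SSConj.exists_split A hA hN hπ hdvd
  obtain ⟨hpos, hfin⟩ := SSConj.finrank_adjoinRoot_pos hπ
  have : Fact (Irreducible π) := ⟨hπ⟩
  have : Finite (AdjoinRoot π) := Module.finite_of_finite F
  obtain ⟨κ, hκ⟩ := FiniteField.norm_surjective F (AdjoinRoot π) c
  let Y₀ : End F (AdjoinRoot π × W) := (LinearMap.mulLeft F κ).prodMap LinearMap.id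
  refine ⟨e.conj Y₀, ?_, ?_⟩
  · ext v
    obtain ⟨x, rfl⟩ := e.surjective v
    rw [Module.End.mul_apply, Module.End.mul_apply, LinearEquiv.conj_apply_apply,
      LinearEquiv.conj_apply_apply, ← he, LinearEquiv.symm_apply_apply, LinearEquiv.symm_apply_apply,
      ← he]
    congr 1
    obtain ⟨a, w⟩ := x
    simp only [Y₀, LinearMap.prodMap_apply, LinearMap.mulLeft_apply, LinearMap.id_apply,
      SSConj.mulRoot_apply]
    rw [mul_left_comm]
  · rw [LinearEquiv.conj_apply, LinearMap.comp_assoc, LinearMap.det_conj]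
    have h1 := LinearMap.det_prodMap (LinearMap.mulLeft F κ) (LinearMap.id : End F W)
    rw [LinearMap.det_id, mul_one] at h1
    exact h1.trans hκ

/-- Matrix form. -/
theorem mat_exists_det {ι : Type*} [Fintype ι] [DecidableEq ι] [Nonempty ι] {N : ℕ}
    (hN : (N : F) ≠ 0) {A : Matrix ι ι F} (hA : A ^ N = 1) (c : Fˣ) :
    ∃ Y : GL ι F, (Y : Matrix ι ι F) * A = A * Y ∧ Matrix.det (Y : Matrix ι ι F) = c := by
  obtain ⟨Y, hY, hdet⟩ := exists_det (Matrix.toLin' A)
    (by rw [← Matrix.toLin'_pow, hA]; exact Matrix.toLin'_one) hN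
    (by rw [Module.finrank_fintype_fun_eq_card]; exact Fintype.card_pos) (c : F)
  have hd : Matrix.det (LinearMap.toMatrix' Y) = c := by
    rw [LinearMap.det_toMatrix', hdet]
  have hu : IsUnit (LinearMap.toMatrix' Y) := by
    rw [Matrix.isUnit_iff_isUnit_det, hd]
    exact c.isUnit
  obtain ⟨U, hU⟩ := hu
  refine ⟨U, ?_, by rw [hU, hd]⟩
  rw [hU]
  have h2 := congrArg LinearMap.toMatrix' hY
  rw [Module.End.mul_eq_comp, Module.End.mul_eq_comp, LinearMap.toMatrix'_comp,
    LinearMap.toMatrix'_comp, LinearMap.toMatrix'_toLin'] at h2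
  exact h2

theorem natCast_ne_zero {K : Type*} [Field K] (p : ℕ) [Fact p.Prime] [CharP K p] {N : ℕ}
    (h : N.Coprime p) : (N : K) ≠ 0 := by
  intro h0
  rw [CharP.cast_eq_zero_iff K p] at h0
  have := Nat.Coprime.eq_one_of_dvd h.symm h0
  exact (Fact.out : p.Prime).one_lt.ne' this

omit [Finite F] in
theorem coe_pow_eq_one {n : ℕ} {g : Matrix.SpecialLinearGroup (Fin n) F} {N : ℕ}
    (h : orderOf g ∣ N) : (g : Matrix (Fin n) (Fin n) F) ^ N = 1 := by
  have h1 := orderOf_dvd_iff_pow_eq_one.1 h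
  have h2 := congrArg (fun x : Matrix.SpecialLinearGroup (Fin n) F => (x : Matrix (Fin n) (Fin n) F)) h1
  simpa using h2

/-- **`SL_n`**: same characteristic polynomial implies conjugate. -/
theorem sl_isConj (p : ℕ) [Fact p.Prime] [CharP F p] (n : ℕ)
    (g h : Matrix.SpecialLinearGroup (Fin n) F) (hg : (orderOf g).Coprime p)
    (hh : (orderOf h).Coprime p)
    (hc : (g : Matrix (Fin n) (Fin n) F).charpoly = (h : Matrix (Fin n) (Fin n) F).charpoly) :
    IsConj g h := by
  rcases Nat.eq_zero_or_pos n with hn | hn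
  · subst hn
    have : g = h := by
      ext i
      exact i.elim0
    rw [this]
  have : Nonempty (Fin n) := ⟨⟨0, hn⟩⟩
  set N := orderOf g * orderOf h with hN
  have hN0 : (N : F) ≠ 0 := natCast_ne_zero p (hg.mul_left hh)
  have hgN : (g : Matrix (Fin n) (Fin n) F) ^ N = 1 := coe_pow_eq_one (Dvd.intro _ rfl)
  have hhN : (h : Matrix (Fin n) (Fin n) F) ^ N = 1 := coe_pow_eq_one (Dvd.intro_left _ rfl)
  obtain ⟨P, hP⟩ := SSConj.mat_isConj hN0 hgN hhN hc
  obtain ⟨Y, hY, hdet⟩ := mat_exists_det hN0 hgN (Matrix.GeneralLinearGroup.det P)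
  -- `Q = P Y⁻¹`
  have hQdet : (((P * Y⁻¹ : GL (Fin n) F)) : Matrix (Fin n) (Fin n) F).det = 1 := by
    have h1 : Matrix.GeneralLinearGroup.det Y = Matrix.GeneralLinearGroup.det P := Units.ext hdet
    have h2 : Matrix.GeneralLinearGroup.det (P * Y⁻¹) = 1 := by
      rw [map_mul, map_inv, h1, mul_inv_cancel]
    exact congrArg Units.val h2
  have hYinv : ((Y⁻¹ : GL (Fin n) F) : Matrix (Fin n) (Fin n) F) * (g : Matrix (Fin n) (Fin n) F) =
      (g : Matrix (Fin n) (Fin n) F) * ((Y⁻¹ : GL (Fin n) F) : Matrix (Fin n) (Fin n) F) := by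
    have h1 : Commute (g : Matrix (Fin n) (Fin n) F) (Y : Matrix (Fin n) (Fin n) F) := hY.symm
    exact (h1.units_inv_right).symm
  let Q : Matrix.SpecialLinearGroup (Fin n) F := ⟨((P * Y⁻¹ : GL (Fin n) F) : Matrix (Fin n) (Fin n) F), hQdet⟩
  rw [isConj_iff]
  refine ⟨Q, ?_⟩
  rw [mul_inv_eq_iff_eq_mul]
  apply Subtype.ext
  change ((P * Y⁻¹ : GL (Fin n) F) : Matrix (Fin n) (Fin n) F) * (g : Matrix (Fin n) (Fin n) F) =
    (h : Matrix (Fin n) (Fin n) F) * ((P * Y⁻¹ : GL (Fin n) F) : Matrix (Fin n) (Fin n) F)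
  rw [Units.val_mul, mul_assoc, hYinv, ← mul_assoc, hP, mul_assoc]

/-- The `p'`-part of an element as a power with exponent a power of `q`. -/
theorem exists_pow_coprime {G : Type*} [Group G] {p q : ℕ} (hp : p.Prime) (hpq : p ∣ q) (g : G)
    (hg : IsOfFinOrder g) : ∃ k : ℕ, (orderOf (g ^ (q ^ k))).Coprime p := by
  set n := orderOf g with hn
  have hn0 : n ≠ 0 := (hg.orderOf_pos).ne'
  refine ⟨n, ?_⟩
  have h1 : ordProj[p] n ∣ q ^ n := by
    have h2 : p ^ (n.factorization p) ∣ p ^ n :=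
      pow_dvd_pow p (Nat.factorization_lt p hn0).le
    exact h2.trans (pow_dvd_pow_of_dvd hpq n)
  have h3 : orderOf (g ^ (q ^ n)) ∣ ordCompl[p] n := by
    rw [orderOf_dvd_iff_pow_eq_one, ← pow_mul, ← orderOf_dvd_iff_pow_eq_one, ← hn]
    calc n = ordProj[p] n * ordCompl[p] n := (Nat.ordProj_mul_ordCompl_eq_self n p).symm
      _ ∣ q ^ n * ordCompl[p] n := Nat.mul_dvd_mul_right h1 _
  exact (Nat.coprime_ordCompl hp hn0).symm.coprime_dvd_left h3

theorem charpoly_pow_card_pow {F : Type*} [Field F] [Fintype F] {ι : Type*} [Fintype ι] [DecidableEq ι] (A : Matrix ι ι F) (k : ℕ) :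
    (A ^ (Fintype.card F ^ k)).charpoly = A.charpoly := by
  induction k with
  | zero => rw [pow_zero, pow_one]
  | succ k ih => rw [pow_succ, pow_mul, FiniteField.Matrix.charpoly_pow_card, ih]

end Cfsg.Agent.H176.SSDet
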