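import Mathlib
import Cfsg.Agent.H518.DghpCore

/-!
# Products of two solvable subgroups: the framework (helper176, S5773)

`NF T`: no almost simple group with socle `T` is a product of two solvable subgroups.
`NF0 T`: the numerical form (implies `NF T` when `T` has trivial center).
`nf0_triple`: three primes, pairwise separated (`H518.Dghp.Sep`).
`nf0_pair`: two separated primes `r`, `s` and a third prime `p` with upper bounds for `|M|_p` (`M` solvable of order
divisible by `r`, resp. `s`).
-/

set_option autoImplicit false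

namespace Cfsg.Agent.H176.NF

open Cfsg.Agent.H518.Dghp

universe u v

/-- No almost simple group with socle `T` is a product of two solvable subgroups. -/
def NF (T : Type u) [Group T] : Prop :=
  ∀ G H K : Subgroup (MulAut T), (MulAut.conj : T →* MulAut T).range ≤ G → H ≤ G → K ≤ G →
    (∀ g ∈ G, ∃ h ∈ H, ∃ k ∈ K, g = h * k) → Group.IsSolvable H → Group.IsSolvable K → False

/-- The numerical form. -/
def NF0 (T : Type u) [Group T] : Prop :=
  ∀ H K : Subgroup T, Group.IsSolvable H → Group.IsSolvable K →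
    ¬ Nat.card T ∣ Nat.card H * Nat.card K * (MulAut.conj : T →* MulAut T).range.index

theorem isSolvable_of_le {G : Type u} [Group G] {H K : Subgroup G} (h : H ≤ K) (hK : Group.IsSolvable K) :
    Group.IsSolvable H :=
  Group.isSolvable_of_isSolvable_injective (f := Subgroup.inclusion h) (Subgroup.inclusion_injective h)

theorem isSolvable_comap {G : Type u} {L : Type v} [Group G] [Group L] (f : G →* L) (hf : Function.Injective f)
    {K : Subgroup L} (hK : Group.IsSolvable K) : Group.IsSolvable (K.comap f) :=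
  Group.isSolvable_of_isSolvable_injective (f := f.subgroupComap K) (by
    intro a b hab
    apply Subtype.ext
    apply hf
    exact congrArg Subtype.val hab)

theorem isSolvable_map {G : Type u} {L : Type v} [Group G] [Group L] (f : G →* L)
    {K : Subgroup G} (hK : Group.IsSolvable K) : Group.IsSolvable (K.map f) :=
  Group.isSolvable_of_surjective (f.subgroupMap_surjective K)

/-- `|H| |K| = |G| |H ∩ K|` for a factorization. -/
theorem card_factor {A : Type u} [Group A] {G H K : Subgroup A} (hH : H ≤ G) (hK : K ≤ G)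
    (hHK : ∀ g ∈ G, ∃ h ∈ H, ∃ k ∈ K, g = h * k) :
    Nat.card H * Nat.card K = Nat.card G * Nat.card ↥(H ⊓ K) := by
  classical
  have h1 : ∀ g : G, ∃ x : H × K, (g : A) = x.1 * x.2 := fun g => by
    obtain ⟨h, hh, k, hk, e⟩ := hHK g g.2
    exact ⟨(⟨h, hh⟩, ⟨k, hk⟩), e⟩
  choose s hs using h1
  let pr : H × K → G := fun x => ⟨x.1 * x.2, G.mul_mem (hH x.1.2) (hK x.2.2)⟩
  have hpr : ∀ x : H × K, ((s (pr x)).1 : A)⁻¹ * x.1 = (s (pr x)).2 * (x.2 : A)⁻¹ := fun x => by
    have := hs (pr x)
    change (x.1 : A) * x.2 = _ at this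
    rw [inv_mul_eq_iff_eq_mul, ← mul_assoc, ← this]
    group
  let e : H × K ≃ G × ↥(H ⊓ K) :=
    { toFun := fun x => (pr x, ⟨((s (pr x)).1 : A)⁻¹ * x.1, by
        refine ⟨H.mul_mem (H.inv_mem (s (pr x)).1.2) x.1.2, ?_⟩
        rw [hpr]
        exact K.mul_mem (s (pr x)).2.2 (K.inv_mem x.2.2)⟩)
      invFun := fun y => (⟨(s y.1).1 * y.2, H.mul_mem (s y.1).1.2 y.2.2.1⟩,
        ⟨(y.2 : A)⁻¹ * (s y.1).2, K.mul_mem (K.inv_mem y.2.2.2) (s y.1).2.2⟩)
      left_inv := fun x => by
        have h2 := hpr x
        have h3 := hs (pr x)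
        change (x.1 : A) * x.2 = _ at h3
        ext
        · simp
        · simp only [mul_inv_rev, inv_inv]
          rw [mul_assoc, ← h3]
          group
      right_inv := fun y => by
        have h2 : pr (⟨(s y.1).1 * y.2, H.mul_mem (s y.1).1.2 y.2.2.1⟩,
            ⟨(y.2 : A)⁻¹ * (s y.1).2, K.mul_mem (K.inv_mem y.2.2.2) (s y.1).2.2⟩) = y.1 := by
          apply Subtype.ext
          change ((s y.1).1 : A) * y.2 * ((y.2 : A)⁻¹ * (s y.1).2) = y.1
          rw [hs y.1]
          group
        apply Prod.ext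
        · exact h2
        · apply Subtype.ext
          simp only [h2]
          group }
  have h4 := Nat.card_congr e
  rw [Nat.card_prod, Nat.card_prod] at h4
  exact h4

section Basic

variable {T : Type u} [Group T]

instance range_conj_normal : ((MulAut.conj : T →* MulAut T).range).Normal := by
  constructor
  rintro _ ⟨t, rfl⟩ g
  exact ⟨g t, by ext x; simp⟩

/-- `|H| = |H₀| [H : H ∩ Inn]`. -/
theorem card_comap_mul (hZ : Function.Injective (MulAut.conj : T →* MulAut T)) (H : Subgroup (MulAut T)) :
    Nat.card ↥(H.comap (MulAut.conj : T →* MulAut T)) * (MulAut.conj : T →* MulAut T).range.relIndex H =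
      Nat.card H := by
  have h1 := Subgroup.card_mul_index ((MulAut.conj : T →* MulAut T).range.subgroupOf H)
  rw [← h1]
  congr 1
  rw [← Subgroup.card_map_of_injective (f := (MulAut.conj : T →* MulAut T)) hZ, Subgroup.map_comap_eq,
    ← Subgroup.card_map_of_injective H.subtype_injective, Subgroup.subgroupOf_map_subtype]

/-- The index in `H` divides the index in `G`. -/
theorem relIndex_dvd {G H : Subgroup (MulAut T)} (hH : H ≤ G) :
    (MulAut.conj : T →* MulAut T).range.relIndex H ∣ (MulAut.conj : T →* MulAut T).range.relIndex G := by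
  rw [← Subgroup.relIndex_subgroupOf (H := (MulAut.conj : T →* MulAut T).range) hH]
  have : ((MulAut.conj : T →* MulAut T).range.subgroupOf G).Normal :=
    Subgroup.Normal.subgroupOf range_conj_normal G
  exact Subgroup.relIndex_dvd_index_of_normal _ _

/-- The numerical form is enough. -/
theorem NF0.nf [Finite T] (hZ : Function.Injective (MulAut.conj : T →* MulAut T)) (h : NF0 T) : NF T := by
  intro G H K hG hH hK hHK hHs hKs
  have hfin : Finite (MulAut T) := inferInstance
  refine h (H.comap MulAut.conj) (K.comap MulAut.conj) (isSolvable_comap _ hZ hHs) (isSolvable_comap _ hZ hKs) ?_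
  have h0 := card_factor hH hK hHK
  have h1 := card_comap_mul hZ H
  have h2 := card_comap_mul hZ K
  have h3 := card_comap_mul hZ G
  obtain ⟨a, ha⟩ := relIndex_dvd (T := T) hH
  obtain ⟨b, hb⟩ := relIndex_dvd (T := T) hK
  have h4 : Nat.card ↥(G.comap (MulAut.conj : T →* MulAut T)) = Nat.card T := by
    have h5 : G.comap (MulAut.conj : T →* MulAut T) = ⊤ := top_le_iff.1 fun t _ => hG ⟨t, rfl⟩
    rw [h5, Subgroup.card_top]
  rw [h4] at h3
  have h5 : (MulAut.conj : T →* MulAut T).range.relIndex G ∣ (MulAut.conj : T →* MulAut T).range.index := by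
    rw [← Subgroup.relIndex_top_right]
    exact relIndex_dvd le_top
  obtain ⟨c, hc⟩ := h5
  have hpos : 0 < (MulAut.conj : T →* MulAut T).range.relIndex G := Nat.pos_of_ne_zero (by
    intro h6
    rw [h6, mul_zero] at h3
    exact Nat.card_pos.ne h3)
  set x := (MulAut.conj : T →* MulAut T).range.relIndex G with hx
  rw [← h1, ← h2, ← h3] at h0
  -- `h0 : |H₀| i * (|K₀| j) = |T| x * |H ∩ K|`
  have h6 : Nat.card T * Nat.card ↥(H ⊓ K) * a * b * x =
      Nat.card ↥(H.comap (MulAut.conj : T →* MulAut T)) * Nat.card ↥(K.comap (MulAut.conj : T →* MulAut T)) * x * x := by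
    conv_rhs => rw [mul_assoc, mul_assoc]
    conv_rhs => arg 2; arg 2; arg 1; rw [ha]
    conv_rhs => arg 2; arg 2; arg 2; rw [hb]
    calc _ = (Nat.card T * x * Nat.card ↥(H ⊓ K)) * a * b := by ring
      _ = _ := by rw [← h0]; ring
  have h7 := Nat.eq_of_mul_eq_mul_right hpos h6
  rw [hc, ← mul_assoc, ← h7]
  exact ⟨Nat.card ↥(H ⊓ K) * a * b * c, by ring⟩

/-- Transport of `NF`. -/
theorem NF.congr {T : Type u} {T' : Type v} [Group T] [Group T'] (e : T ≃* T') (h : NF T) : NF T' := by
  intro G H K hG hH hK hHK hHs hKs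
  let φ : MulAut T' ≃* MulAut T :=
    { toFun := fun f => (e.trans f).trans e.symm
      invFun := fun f => (e.symm.trans f).trans e
      left_inv := fun f => by ext x; simp
      right_inv := fun f => by ext x; simp
      map_mul' := fun f g => by ext x; simp }
  refine h (G.map φ.toMonoidHom) (H.map φ.toMonoidHom) (K.map φ.toMonoidHom) ?_ (Subgroup.map_mono hH)
    (Subgroup.map_mono hK) ?_ (isSolvable_map _ hHs) (isSolvable_map _ hKs)
  · rintro _ ⟨t, rfl⟩
    refine ⟨MulAut.conj (e t), hG ⟨e t, rfl⟩, ?_⟩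
    ext x
    change e.symm (MulAut.conj (e t) (e x)) = _
    simp
  · rintro _ ⟨g, hg, rfl⟩
    obtain ⟨a, ha, b, hb, hab⟩ := hHK g hg
    exact ⟨_, ⟨a, ha, rfl⟩, _, ⟨b, hb, rfl⟩, by rw [hab, map_mul]⟩

/-- Transport of `NF0`. -/
theorem NF0.congr {T : Type u} {T' : Type v} [Group T] [Group T'] (e : T ≃* T') (h : NF0 T) : NF0 T' := by
  intro H K hHs hKs hdvd
  refine h (H.comap e.toMonoidHom) (K.comap e.toMonoidHom) (isSolvable_comap _ e.injective hHs)
    (isSolvable_comap _ e.injective hKs) ?_
  let φ : MulAut T' ≃* MulAut T :=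
    { toFun := fun f => (e.trans f).trans e.symm
      invFun := fun f => (e.symm.trans f).trans e
      left_inv := fun f => by ext x; simp
      right_inv := fun f => by ext x; simp
      map_mul' := fun f g => by ext x; simp }
  have h1 : (MulAut.conj : T' →* MulAut T').range = (MulAut.conj : T →* MulAut T).range.comap φ.toMonoidHom := by
    ext f
    constructor
    · rintro ⟨t, rfl⟩
      refine ⟨e.symm t, ?_⟩
      ext x
      change _ = e.symm (MulAut.conj t (e x))
      simp
    · rintro ⟨t, ht⟩
      refine ⟨e t, ?_⟩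
      apply φ.injective
      change _ = φ f at ht
      rw [← ht]
      ext x
      change e.symm (MulAut.conj (e t) (e x)) = _
      simp
  have h2 : (MulAut.conj : T' →* MulAut T').range.index = (MulAut.conj : T →* MulAut T).range.index := by
    rw [h1, Subgroup.index_comap_of_surjective _ φ.surjective]
  have h3 : ∀ L : Subgroup T', Nat.card ↥(L.comap e.toMonoidHom) = Nat.card L := fun L => by
    rw [← Subgroup.card_map_of_injective (f := e.toMonoidHom) e.injective,
      Subgroup.map_comap_eq_self_of_surjective e.surjective]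
  rw [h3, h3, ← h2, Nat.card_congr e.toEquiv]
  exact hdvd

/-- The order of `Out T`. -/
noncomputable def outN (T : Type u) [Group T] : ℕ := (MulAut.conj : T →* MulAut T).range.index

theorem outN_eq : outN T = (MulAut.conj : T →* MulAut T).range.index := rfl

theorem outN_ne_zero [Finite T] : outN T ≠ 0 := Subgroup.index_ne_zero_of_finite

/-- If `|T| ∣ |H| |K| |Out T|` and the prime `r` divides `|T|` but not `|Out T|`, then `r` divides `|H|` or `|K|`. -/
theorem dvd_or {r : ℕ} (hr : r.Prime) (hrT : r ∣ Nat.card T) (hro : ¬ r ∣ outN T) {H K : Subgroup T}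
    (h : Nat.card T ∣ Nat.card H * Nat.card K * outN T) : r ∣ Nat.card H ∨ r ∣ Nat.card K := by
  rcases (Nat.Prime.dvd_mul hr).1 (hrT.trans h) with h1 | h1
  · exact (Nat.Prime.dvd_mul hr).1 h1
  · exact absurd h1 hro

/-- **Three pairwise separated primes.** -/
theorem nf0_triple {r s t : ℕ} (hr : r.Prime) (hs : s.Prime) (ht : t.Prime)
    (hrT : r ∣ Nat.card T) (hsT : s ∣ Nat.card T) (htT : t ∣ Nat.card T)
    (hro : ¬ r ∣ outN T) (hso : ¬ s ∣ outN T) (hto : ¬ t ∣ outN T)
    (hrs : Sep T r s) (hrt : Sep T r t) (hst : Sep T s t) : NF0 T := by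
  intro H K hH hK h
  rcases dvd_or hr hrT hro h with h1 | h1 <;> rcases dvd_or hs hsT hso h with h2 | h2 <;>
    rcases dvd_or ht htT hto h with h3 | h3
  · exact hrs _ hH h1 h2
  · exact hrs _ hH h1 h2
  · exact hrt _ hH h1 h3
  · exact hst _ hK h2 h3
  · exact hst _ hH h2 h3
  · exact hrt _ hK h1 h3
  · exact hrs _ hK h1 h2
  · exact hrs _ hK h1 h2

/-- `Bd T r p a`: a solvable subgroup of order divisible by `r` has order with `p`-part at most `p ^ a`. -/
def Bd (T : Type u) [Group T] (r p a : ℕ) : Prop :=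
  ∀ M : Subgroup T, Group.IsSolvable M → r ∣ Nat.card M → (Nat.card M).factorization p ≤ a

theorem Bd.mono {r p a b : ℕ} (h : Bd T r p a) (hab : a ≤ b) : Bd T r p b := fun M hM hr => (h M hM hr).trans hab

/-- **Two separated primes and a bound for the `p`-parts.** -/
theorem nf0_pair [Finite T] {r s p a b : ℕ} (hr : r.Prime) (hs : s.Prime)
    (hrT : r ∣ Nat.card T) (hsT : s ∣ Nat.card T) (hro : ¬ r ∣ outN T) (hso : ¬ s ∣ outN T) (hrs : Sep T r s)
    (hra : Bd T r p a) (hsb : Bd T s p b) (hlt : a + b + (outN T).factorization p < (Nat.card T).factorization p) :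
    NF0 T := by
  intro H K hH hK h
  have hH0 : Nat.card H ≠ 0 := Nat.card_pos.ne'
  have hK0 : Nat.card K ≠ 0 := Nat.card_pos.ne'
  have hO0 : outN T ≠ 0 := outN_ne_zero
  have h4 : (Nat.card T).factorization p ≤ (Nat.card H).factorization p + (Nat.card K).factorization p +
      (outN T).factorization p := by
    have := (Nat.factorization_le_iff_dvd Nat.card_pos.ne' (mul_ne_zero (mul_ne_zero hH0 hK0) hO0)).2 h p
    rwa [Nat.factorization_mul (mul_ne_zero hH0 hK0) hO0, Nat.factorization_mul hH0 hK0, Finsupp.add_apply,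
      Finsupp.add_apply] at this
  rcases dvd_or hr hrT hro h with h1 | h1 <;> rcases dvd_or hs hsT hso h with h2 | h2
  · exact hrs _ hH h1 h2
  · have h5 := hra _ hH h1
    have h6 := hsb _ hK h2
    omega
  · have h5 := hra _ hK h1
    have h6 := hsb _ hH h2
    omega
  · exact hrs _ hK h1 h2

/-- `Bd` passes to quotients by normal subgroups of order prime to `p` (for instance the center). -/
theorem Bd.quot [Finite T] {r p a : ℕ} (h : Bd T r p a) (Z : Subgroup T) [Z.Normal] (hZ : Group.IsSolvable Z) :
    Bd (T ⧸ Z) r p a := by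
  intro M hM hr
  have h1 : Nat.card ↥(M.comap (QuotientGroup.mk' Z)) = Nat.card Z * Nat.card M := by
    have h2 := Subgroup.card_mul_index (M.comap (QuotientGroup.mk' Z))
    have h3 := Subgroup.card_mul_index M
    have h4 := Subgroup.card_mul_index Z
    rw [Subgroup.index_comap_of_surjective _ (QuotientGroup.mk'_surjective Z)] at h2
    have h5 : 0 < M.index := Nat.pos_of_ne_zero Subgroup.index_ne_zero_of_finite
    refine Nat.eq_of_mul_eq_mul_right h5 ?_
    rw [h2, mul_assoc, h3, ← h4]
    rfl
  have h2 : Group.IsSolvable ↥(M.comap (QuotientGroup.mk' Z)) := by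
    have hle : Z ≤ M.comap (QuotientGroup.mk' Z) := by
      intro z hz
      rw [Subgroup.mem_comap, QuotientGroup.mk'_apply, (QuotientGroup.eq_one_iff z).2 hz]
      exact M.one_mem
    refine Group.isSolvable_of_ker_le_range (Subgroup.inclusion hle) ((QuotientGroup.mk' Z).subgroupComap M) ?_
    rintro ⟨x, hx⟩ hx1
    have := congrArg Subtype.val (MonoidHom.mem_ker.1 hx1)
    exact ⟨⟨x, (QuotientGroup.eq_one_iff (x : T)).1 this⟩, rfl⟩
  have h3 := h _ h2 (by rw [h1]; exact hr.trans (dvd_mul_left _ _))
  rw [h1, Nat.factorization_mul Nat.card_pos.ne' Nat.card_pos.ne', Finsupp.add_apply] at h3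
  omega

end Basic

end Cfsg.Agent.H176.NF
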