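import Cfsg.Prelude.Def_Classification2
import Cfsg.Agent.H176.NFBase

/-!
# S5773 from the rows (helper176)
-/

set_option autoImplicit false

namespace Cfsg.Agent.H176.NF

universe u v

/-- From an almost simple group to `MulAut T`. -/
theorem NF.false {G : Type u} [Group G] (T : Subgroup G) (hT : T.Normal)
    (H K : Subgroup G) (hH : Group.IsSolvable ↥H) (hK : Group.IsSolvable ↥K) (hHK : ∀ g : G, ∃ h ∈ H, ∃ k ∈ K, g = h * k) (h : NF T) : False := by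
  have hle : ∀ L : Subgroup G, L.map (MulAut.conjNormal : G →* MulAut T) ≤ (MulAut.conjNormal : G →* MulAut T).range :=
    fun L => by rintro _ ⟨x, _, rfl⟩; exact ⟨x, rfl⟩
  refine h (MulAut.conjNormal : G →* MulAut T).range (H.map MulAut.conjNormal) (K.map MulAut.conjNormal) ?_ (hle H)
    (hle K) ?_ (isSolvable_map _ hH) (isSolvable_map _ hK)
  · rintro _ ⟨t, rfl⟩
    exact ⟨t, by ext x; simp⟩
  · rintro _ ⟨g, rfl⟩
    obtain ⟨a, ha, b, hb, hab⟩ := hHK g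
    exact ⟨_, ⟨a, ha, rfl⟩, _, ⟨b, hb, rfl⟩, by rw [hab, map_mul]⟩

/-- The rows. -/
structure Rows : Prop where
  alt : ∀ n : ℕ, 7 ≤ n → NF (alternatingGroup (Fin n))
  psl3 : ∀ (F : Type) [Field F] [Fintype F], 5 ≤ Fintype.card F → Fintype.card F ≠ 8 →
    NF (Matrix.ProjectiveSpecialLinearGroup (Fin 3) F)
  l42 : ∀ (F : Type) [Field F] [Fintype F] (n : ℕ), n = 4 → Fintype.card F = 2 →
    NF (Matrix.ProjectiveSpecialLinearGroup (Fin n) F)
  psl : ∀ (F : Type) [Field F] [Fintype F] (n : ℕ), 4 ≤ n → ¬ (n = 4 ∧ Fintype.card F = 2) →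
    NF (Matrix.ProjectiveSpecialLinearGroup (Fin n) F)
  psp4 : ∀ (F : Type) [Field F] [Fintype F], 4 ≤ Fintype.card F → NF (Cfsg.PSp 2 F)
  psp : ∀ (F : Type) [Field F] [Fintype F] (m : ℕ), 3 ≤ m → NF (Cfsg.PSp m F)
  psu3 : ∀ (F : Type) [Field F] [Fintype F] (q : ℕ), Fintype.card F = q ^ 2 → 3 ≤ q → q ≠ 8 → NF (Cfsg.PSU 3 F q)
  psu : ∀ (F : Type) [Field F] [Fintype F] (n q : ℕ), Fintype.card F = q ^ 2 → 4 ≤ n → ¬ (n = 4 ∧ q = 2) →
    NF (Cfsg.PSU n F q)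
  oodd : ∀ (F : Type) [Field F] [Fintype F] (m : ℕ), 3 ≤ m → Odd (Fintype.card F) →
    NF (Cfsg.POmega F (Cfsg.quadFormOdd m F))
  oplus : ∀ (F : Type) [Field F] [Fintype F] (m : ℕ), 4 ≤ m → NF (Cfsg.POmega F (Cfsg.quadFormPlus m F))
  ominus : ∀ (F : Type) [Field F] [Fintype F] (m : ℕ) (a b : F), 4 ≤ m →
    (∀ z₁ z₂ : F, z₁ ^ 2 + a * z₁ * z₂ + b * z₂ ^ 2 = 0 → z₁ = 0 ∧ z₂ = 0) →
    NF (Cfsg.POmega F (Cfsg.quadFormMinus (m - 1) F a b))
  exc : ∀ (T : Type u) [Group T] [Finite T], Cfsg.IsExceptionalLieType T → NF T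
  spor : ∀ (T : Type u) [Group T] [Finite T], Cfsg.IsSporadicGroup T → ¬ Cfsg.Spor.IsoM11 T → NF T

/-- Exceptional isomorphisms. -/
structure Isos : Prop where
  a5 : ∃ (F : Type) (_ : Field F) (_ : Fintype F),
    Nonempty (alternatingGroup (Fin 5) ≃* Matrix.ProjectiveSpecialLinearGroup (Fin 2) F)
  a6 : ∃ (F : Type) (_ : Field F) (_ : Fintype F),
    Nonempty (alternatingGroup (Fin 6) ≃* Matrix.ProjectiveSpecialLinearGroup (Fin 2) F)
  l32 : ∀ (F : Type) [Field F] [Fintype F], Fintype.card F = 2 → ∃ (K : Type) (_ : Field K) (_ : Fintype K),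
    Nonempty (Matrix.ProjectiveSpecialLinearGroup (Fin 3) F ≃* Matrix.ProjectiveSpecialLinearGroup (Fin 2) K)
  s43 : ∀ (F : Type) [Field F] [Fintype F], Fintype.card F = 3 → ∃ (K : Type) (_ : Field K) (_ : Fintype K),
    Fintype.card K = 4 ∧ Nonempty (Cfsg.PSp 2 F ≃* Cfsg.PSU 4 K 2)

/-- The conclusion of S5773 for `T`. -/
def Concl (T : Type u) [Group T] : Prop :=
  (∃ (F : Type) (_ : Field F) (_ : Fintype F), Nonempty (T ≃* Matrix.ProjectiveSpecialLinearGroup (Fin 2) F)) ∨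
    (∃ (F : Type) (_ : Field F) (_ : Fintype F), (Fintype.card F = 3 ∨ Fintype.card F = 4 ∨ Fintype.card F = 8) ∧
        Nonempty (T ≃* Matrix.ProjectiveSpecialLinearGroup (Fin 3) F)) ∨
    (∃ (F : Type) (_ : Field F) (_ : Fintype F), Fintype.card F = 64 ∧ Nonempty (T ≃* Cfsg.PSU 3 F 8)) ∨
    (∃ (F : Type) (_ : Field F) (_ : Fintype F), Fintype.card F = 4 ∧ Nonempty (T ≃* Cfsg.PSU 4 F 2)) ∨
    Cfsg.Spor.IsoM11 T

/-- **Every simple group satisfies the conclusion or `NF`.** -/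
theorem concl_or_nf (R : Rows.{u}) (I : Isos) {T : Type u} [Group T] [Finite T] [IsSimpleGroup T]
    (hna : ¬ IsMulCommutative T) (hk : Cfsg.IsKnownSimple' T) : Concl T ∨ NF T := by
  rcases hk with h | h | h | h | h | h | h | h | h | h
  · exfalso
    have h' : (Nat.card T).Prime := h
    have := Fact.mk h'
    have := isCyclic_of_prime_card (α := T) rfl
    exact hna IsCyclic.isMulCommutative
  · obtain ⟨n, hn, ⟨e⟩⟩ := h
    by_cases h7 : 7 ≤ n
    · exact Or.inr ((R.alt n h7).congr e.symm)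
    · obtain rfl | rfl : n = 5 ∨ n = 6 := by omega
      · obtain ⟨F, iF, jF, ⟨e'⟩⟩ := I.a5
        exact Or.inl (Or.inl ⟨F, iF, jF, ⟨e.trans e'⟩⟩)
      · obtain ⟨F, iF, jF, ⟨e'⟩⟩ := I.a6
        exact Or.inl (Or.inl ⟨F, iF, jF, ⟨e.trans e'⟩⟩)
  · obtain ⟨F, iF, jF, n, hn, h4, ⟨e⟩⟩ := h
    obtain rfl | rfl | h5 : n = 2 ∨ n = 3 ∨ 4 ≤ n := by omega
    · exact Or.inl (Or.inl ⟨F, iF, jF, ⟨e⟩⟩)
    · by_cases h2 : Fintype.card F = 2
      · obtain ⟨K, iK, jK, ⟨e'⟩⟩ := I.l32 F h2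
        exact Or.inl (Or.inl ⟨K, iK, jK, ⟨e.trans e'⟩⟩)
      · by_cases h3 : Fintype.card F = 3 ∨ Fintype.card F = 4 ∨ Fintype.card F = 8
        · exact Or.inl (Or.inr (Or.inl ⟨F, iF, jF, h3, ⟨e⟩⟩))
        · have h1 : 1 < Fintype.card F := Fintype.one_lt_card
          exact Or.inr ((R.psl3 F (by omega) (by omega)).congr e.symm)
    · by_cases h42 : n = 4 ∧ Fintype.card F = 2
      · exact Or.inr ((R.l42 F n h42.1 h42.2).congr e.symm)
      · exact Or.inr ((R.psl F n h5 h42).congr e.symm)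
  · obtain ⟨F, iF, jF, m, hm, h3, ⟨e⟩⟩ := h
    by_cases hm3 : 3 ≤ m
    · exact Or.inr ((R.psp F m hm3).congr e.symm)
    · obtain rfl : m = 2 := by omega
      by_cases hF : Fintype.card F = 3
      · obtain ⟨K, iK, jK, hK, ⟨e'⟩⟩ := I.s43 F hF
        exact Or.inl (Or.inr (Or.inr (Or.inr (Or.inl ⟨K, iK, jK, hK, ⟨e.trans e'⟩⟩))))
      · have := h3 rfl
        exact Or.inr ((R.psp4 F (by omega)).congr e.symm)
  · obtain ⟨F, iF, jF, n, q, hF, hn, h32, ⟨e⟩⟩ := h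
    have h1 : 1 < Fintype.card F := Fintype.one_lt_card
    have hq : 1 < q := by
      by_contra h0
      have : q = 0 ∨ q = 1 := by omega
      rcases this with rfl | rfl <;> norm_num at hF <;> omega
    by_cases h3 : n = 3
    · subst h3
      by_cases h8 : q = 8
      · subst h8
        exact Or.inl (Or.inr (Or.inr (Or.inl ⟨F, iF, jF, hF, ⟨e⟩⟩)))
      · exact Or.inr ((R.psu3 F q hF (by
          have : q ≠ 2 := fun h => h32 ⟨rfl, h⟩
          omega) h8).congr e.symm)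
    · by_cases h42 : n = 4 ∧ q = 2
      · obtain ⟨rfl, rfl⟩ := h42
        exact Or.inl (Or.inr (Or.inr (Or.inr (Or.inl ⟨F, iF, jF, hF, ⟨e⟩⟩))))
      · exact Or.inr ((R.psu F n q hF (by omega) h42).congr e.symm)
  · obtain ⟨F, iF, jF, m, hm, hodd, ⟨e⟩⟩ := h
    exact Or.inr ((R.oodd F m hm hodd).congr e.symm)
  · obtain ⟨F, iF, jF, m, hm, ⟨e⟩⟩ := h
    exact Or.inr ((R.oplus F m hm).congr e.symm)
  · obtain ⟨F, iF, jF, m, a, b, hm, hab, ⟨e⟩⟩ := h
    exact Or.inr ((R.ominus F m a b hm hab).congr e.symm)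
  · exact Or.inr (R.exc T h)
  · by_cases h11 : Cfsg.Spor.IsoM11 T
    · exact Or.inl (Or.inr (Or.inr (Or.inr (Or.inr h11))))
    · exact Or.inr (R.spor T h h11)

/-- **S5773 from the rows.** -/
theorem main (R : Rows.{u}) (I : Isos) {G : Type u} [Group G] [Finite G] (T : Subgroup G) (hT : T.Normal)
    (hTs : IsSimpleGroup ↥T) (hTc : ¬ IsMulCommutative ↥T) (hk : Cfsg.IsKnownSimple' T)
    (H K : Subgroup G) (hH : Group.IsSolvable ↥H) (hK : Group.IsSolvable ↥K) (hHK : ∀ g : G, ∃ h ∈ H, ∃ k ∈ K, g = h * k) : Concl T :=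
  (concl_or_nf R I hTc hk).resolve_right fun h => h.false T hT H K hH hK hHK

end Cfsg.Agent.H176.NF
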