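import Mathlib
import Cfsg.Agent.H176.NFMain
import Cfsg.Agent.H176.NFAbs
import Cfsg.Agent.H176.NFIso
import Cfsg.Agent.H743.NFLinB
import Cfsg.Agent.H222.NFLinC
import Cfsg.Agent.H222.NFLinD
import Cfsg.Agent.H813.NFAlt
import Cfsg.Agent.H178.NFPsl3.Main
import Cfsg.Agent.H743.NFPsl
import Cfsg.Agent.H183.NfPSp4
import Cfsg.Agent.H901.FacBridge
import Cfsg.Agent.H904.Sol.Main
import Cfsg.Agent.H450.NF.Main
import Cfsg.Agent.H272.NFURow
import Cfsg.Agent.H342.NFIdx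
import Cfsg.Agent.H342.NFSmallB
import Cfsg.Agent.H740.NFExc
import Cfsg.Agent.H740.NFTitsB
import Cfsg.Agent.H185.NFExc

/-!
# S5773: assembly of the rows (helper176)
-/

set_option autoImplicit false

namespace Cfsg.Agent.H176.NFAsm

open Cfsg.Agent.H176.NF

universe u

theorem hB : BdOfUnip := Cfsg.Agent.H743.NFLinB.bdOfUnip bdAbs

theorem hL : UnipLin := Cfsg.Agent.H222.NFLin.unipLin

theorem hA : AnisoForm := Cfsg.Agent.H222.NFLin.anisoForm

theorem hW : WittOneForm := Cfsg.Agent.H222.NFLin.wittOneForm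

theorem q_eq {F : Type} [Fintype F] {q c : ℕ} (h : Fintype.card F = q ^ 2) (hc : q = c) : Fintype.card F = c ^ 2 := by
  rw [h, hc]

/-- The rows, given the remaining ones. -/
theorem rows_of
    (spor : ∀ (T : Type u) [Group T] [Finite T], Cfsg.IsSporadicGroup T → ¬ Cfsg.Spor.IsoM11 T → NF T) :
    Rows.{u} where
  alt := Cfsg.Agent.H813.NFAlt.alt
  psl3 := fun F _ _ h5 h8 => Cfsg.Agent.H178.NFPsl3.psl3 hB hL F h5 h8
  l42 := fun F _ _ n hn hF => Cfsg.Agent.H813.NFAlt.l42 F n hn hF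
  psl := fun F _ _ n hn h42 => by
    by_cases h62 : n = 6 ∧ Fintype.card F = 2
    · obtain ⟨rfl, h⟩ := h62
      exact Cfsg.Agent.H342.NF.nf_l62 h
    · exact Cfsg.Agent.H743.NFPsl.psl hB hL F n hn h42 h62
  psp4 := fun F _ _ h4 => Cfsg.Agent.H183.NF4.psp4 hB F h4
  psp := fun F _ _ m hm => by
    by_cases h : m = 3 ∧ Fintype.card F = 2
    · obtain ⟨rfl, h⟩ := h
      exact Cfsg.Agent.H342.NF.nf_sp62 h
    · exact Cfsg.Agent.H901.Fac.row_psp F m hm h
  psu3 := fun F _ _ q hF h3 h8 => by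
    by_cases h5 : q = 5
    · subst h5
      exact Cfsg.Agent.H450.NF.psu3_five F hF
    · exact Cfsg.Agent.H904.SolMain.psu3_ne_five F q hF h3 h5 h8
  psu := fun F _ _ n q hF hn h42 => by
    by_cases h52 : n = 5 ∧ q = 2
    · obtain ⟨rfl, rfl⟩ := h52
      exact Cfsg.Agent.H342.NF.nf_u52 hF
    · exact Cfsg.Agent.H272.NFU.psu hB hA hW hL F n q hF hn h42 h52
  oodd := fun F _ _ m hm hodd => Cfsg.Agent.H901.Fac.row_oodd F m hm hodd
  oplus := fun F _ _ m hm => by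
    by_cases h : m = 4 ∧ Fintype.card F = 2
    · obtain ⟨rfl, h⟩ := h
      exact Cfsg.Agent.H342.NF.nf_o82 h
    · exact Cfsg.Agent.H901.Fac.row_oplus F m hm h
  ominus := fun F _ _ m a b hm hab => Cfsg.Agent.H901.Fac.row_ominus F m a b hm hab
  exc := fun T _ _ h => by
    rcases h with h | h | h | h | h | h | h | h | h | h | h
    · exact Cfsg.Agent.H185.NFExc.exc1 (Or.inl h)
    · exact Cfsg.Agent.H185.NFExc.exc1 (Or.inr (Or.inl h))
    · exact Cfsg.Agent.H185.NFExc.exc1 (Or.inr (Or.inr (Or.inl h)))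
    · exact Cfsg.Agent.H185.NFExc.exc1 (Or.inr (Or.inr (Or.inr (Or.inl h))))
    · exact Cfsg.Agent.H185.NFExc.exc1 (Or.inr (Or.inr (Or.inr (Or.inr (Or.inl h)))))
    · exact Cfsg.Agent.H185.NFExc.exc1 (Or.inr (Or.inr (Or.inr (Or.inr (Or.inr (Or.inl h))))))
    · exact Cfsg.Agent.H185.NFExc.exc1 (Or.inr (Or.inr (Or.inr (Or.inr (Or.inr (Or.inr h))))))
    · exact Cfsg.Agent.H740.NFExc.exc2 (Or.inl h)
    · exact Cfsg.Agent.H740.NFExc.exc2 (Or.inr (Or.inl h))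
    · exact Cfsg.Agent.H740.NFExc.exc2 (Or.inr (Or.inr h))
    · exact Cfsg.Agent.H740.NFTits.nf_tits h
  spor := spor

end Cfsg.Agent.H176.NFAsm
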