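import Mathlib

set_option autoImplicit false

/-!
Nilpotent matrices with a single Jordan block: `x ^ n = 0`, `x ^ (n - 1) ≠ 0` in dimension `n`.

* `linearIndependent_pow`: the vectors `x ^ i v`;
* `exists_pow_sum`: the commutant of `x` consists of the polynomials in `x`;
* `pow_ne_zero_of_finrank_ker`: one-dimensional kernel implies `x ^ (n - 1) ≠ 0`.
-/

namespace Cfsg.Agent.H176.SingleBlock

open Module

variable {F : Type*} [Field F]

section lin

variable {V : Type*} [AddCommGroup V] [Module F V] {x : End F V}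

theorem pow_apply_eq_zero {n : ℕ} (hx : x ^ n = 0) {k : ℕ} (hk : n ≤ k) (v : V) :
    (x ^ k) v = 0 := by
  rw [← Nat.sub_add_cancel hk, pow_add, hx, mul_zero, LinearMap.zero_apply]

theorem pow_pow_apply (i j : ℕ) (v : V) : (x ^ i) ((x ^ j) v) = (x ^ (i + j)) v := by
  rw [pow_add]; rfl

theorem linearIndependent_pow {n : ℕ} (hx : x ^ n = 0) {v : V} (hv : (x ^ (n - 1)) v ≠ 0) :
    LinearIndependent F (fun i : Fin n => (x ^ (i : ℕ)) v) := by
  rw [Fintype.linearIndependent_iff]
  intro g hg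
  have key : ∀ k (hk : k < n), g ⟨k, hk⟩ = 0 := by
    intro k
    induction k using Nat.strong_induction_on with
    | _ k ih =>
      intro hk
      have h1 := congrArg (x ^ (n - 1 - k)) hg
      rw [map_sum, map_zero, Finset.sum_eq_single ⟨k, hk⟩] at h1
      · rw [map_smul, pow_pow_apply, Nat.sub_add_cancel (by omega)] at h1
        exact (smul_eq_zero.1 h1).resolve_right hv
      · intro i _ hi
        rw [map_smul, pow_pow_apply]
        rcases lt_trichotomy (i : ℕ) k with h | h | h
        · rw [ih i h i.2, zero_smul]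
        · exact absurd (Fin.ext h) hi
        · rw [pow_apply_eq_zero hx (by omega), smul_zero]
      · intro h
        exact absurd (Finset.mem_univ _) h
  intro i
  exact key i i.2

theorem exists_coord [FiniteDimensional F V] {n : ℕ} (hn : finrank F V = n) (hx : x ^ n = 0)
    {v : V} (hv : (x ^ (n - 1)) v ≠ 0) (w : V) :
    ∃ c : Fin n → F, w = ∑ i, c i • (x ^ (i : ℕ)) v := by
  have hli := linearIndependent_pow hx hv
  have hspan := hli.span_eq_top_of_card_eq_finrank' (by rw [Fintype.card_fin, hn])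
  have hw : w ∈ Submodule.span F (Set.range fun i : Fin n => (x ^ (i : ℕ)) v) := by
    rw [hspan]; trivial
  obtain ⟨c, hc⟩ := (Submodule.mem_span_range_iff_exists_fun F).1 hw
  exact ⟨c, hc.symm⟩

/-- Two maps commuting with `x` which agree at `v` are equal. -/
theorem ext_of_commute [FiniteDimensional F V] {n : ℕ} (hn : finrank F V = n) (hx : x ^ n = 0)
    {v : V} (hv : (x ^ (n - 1)) v ≠ 0) {y z : End F V} (hy : y * x = x * y) (hz : z * x = x * z)
    (h : y v = z v) : y = z := by
  have hy' : ∀ i : ℕ, y * x ^ i = x ^ i * y := fun i => (Commute.pow_right hy i)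
  have hz' : ∀ i : ℕ, z * x ^ i = x ^ i * z := fun i => (Commute.pow_right hz i)
  ext w
  obtain ⟨c, rfl⟩ := exists_coord hn hx hv w
  rw [map_sum, map_sum]
  refine Finset.sum_congr rfl fun i _ => ?_
  rw [map_smul, map_smul]
  congr 1
  have h1 : (y * x ^ (i : ℕ)) v = (z * x ^ (i : ℕ)) v := by
    rw [hy', hz']
    change (x ^ (i : ℕ)) (y v) = (x ^ (i : ℕ)) (z v)
    rw [h]
  exact h1

/-- The commutant of `x`. -/
theorem exists_pow_sum [FiniteDimensional F V] {n : ℕ} (hn : finrank F V = n) (hx : x ^ n = 0)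
    {v : V} (hv : (x ^ (n - 1)) v ≠ 0) {y : End F V} (hy : y * x = x * y) :
    ∃ c : Fin n → F, y = ∑ i, c i • x ^ (i : ℕ) := by
  obtain ⟨c, hc⟩ := exists_coord hn hx hv (y v)
  refine ⟨c, ext_of_commute hn hx hv hy ?_ ?_⟩
  · rw [Finset.sum_mul, Finset.mul_sum]
    refine Finset.sum_congr rfl fun i _ => ?_
    rw [smul_mul_assoc, mul_smul_comm, ← pow_succ, ← pow_succ']
  · rw [hc, LinearMap.sum_apply]
    rfl

theorem pow_sum_injective {n : ℕ} (hx : x ^ n = 0)
    {v : V} (hv : (x ^ (n - 1)) v ≠ 0) {c : Fin n → F}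
    (h : ∑ i, c i • x ^ (i : ℕ) = 0) : c = 0 := by
  have hli := linearIndependent_pow hx hv
  rw [Fintype.linearIndependent_iff] at hli
  funext i
  apply hli
  have := congrArg (fun y : End F V => y v) h
  simpa [LinearMap.sum_apply] using this

theorem finrank_ker_pow_le [FiniteDimensional F V] (hker : finrank F (LinearMap.ker x) = 1)
    (k : ℕ) : finrank F (LinearMap.ker (x ^ k)) ≤ k := by
  induction k with
  | zero =>
    have : LinearMap.ker (x ^ 0) = ⊥ := by
      rw [pow_zero]; exact LinearMap.ker_id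
    rw [this, finrank_bot]
  | succ k ih =>
    -- the restriction of `x ^ k` to `ker (x ^ (k+1))`
    let φ : LinearMap.ker (x ^ (k + 1)) →ₗ[F] V := (x ^ k).domRestrict _
    have h1 := LinearMap.finrank_range_add_finrank_ker φ
    have h2 : LinearMap.range φ ≤ LinearMap.ker x := by
      rintro _ ⟨⟨v, hv⟩, rfl⟩
      rw [LinearMap.mem_ker] at hv ⊢
      rw [pow_succ'] at hv
      exact hv
    have h3 := Submodule.finrank_mono h2
    have h4 : finrank F (LinearMap.ker φ) ≤ finrank F (LinearMap.ker (x ^ k)) := by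
      let ψ : LinearMap.ker φ →ₗ[F] LinearMap.ker (x ^ k) :=
        LinearMap.codRestrict _ ((Submodule.subtype _) ∘ₗ (Submodule.subtype _))
          (fun v => v.2)
      apply LinearMap.finrank_le_finrank_of_injective (f := ψ)
      intro v w h
      have := congrArg Subtype.val h
      exact Subtype.ext (Subtype.ext this)
    omega

theorem pow_ne_zero_of_finrank_ker [FiniteDimensional F V]
    (hker : finrank F (LinearMap.ker x) = 1) {k : ℕ} (hk : k < finrank F V) : x ^ k ≠ 0 := by
  intro h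
  have h1 := finrank_ker_pow_le hker k
  rw [h, LinearMap.ker_zero, finrank_top] at h1
  omega

end lin

section mat

variable {ι : Type*} [Fintype ι] [DecidableEq ι] {x : Matrix ι ι F}

theorem toLin'_pow' (x : Matrix ι ι F) (k : ℕ) :
    Matrix.toLin' (x ^ k) = (Matrix.toLin' x) ^ k := Matrix.toLin'_pow x k

omit [DecidableEq ι] in
theorem exists_vec (h : x ≠ 0) : ∃ v : ι → F, x.mulVec v ≠ 0 := by
  by_contra hcon
  push Not at hcon
  apply h
  apply Matrix.mulVec_injective
  funext v
  rw [hcon v, Matrix.zero_mulVec]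

/-- Matrix form: existence of a cyclic vector. -/
theorem exists_cyclic {n : ℕ} (hx' : x ^ (n - 1) ≠ 0) :
    ∃ v : ι → F, ((Matrix.toLin' x) ^ (n - 1)) v ≠ 0 := by
  obtain ⟨v, hv⟩ := exists_vec hx'
  refine ⟨v, ?_⟩
  rw [← toLin'_pow', Matrix.toLin'_apply]
  exact hv

theorem toLin'_pow_eq_zero {n : ℕ} (hx : x ^ n = 0) : (Matrix.toLin' x) ^ n = 0 := by
  rw [← toLin'_pow', hx, map_zero]

theorem mat_exists_pow_sum {n : ℕ} (hn : Fintype.card ι = n) (hx : x ^ n = 0)
    (hx' : x ^ (n - 1) ≠ 0) {y : Matrix ι ι F} (hy : y * x = x * y) :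
    ∃ c : Fin n → F, y = ∑ i, c i • x ^ (i : ℕ) := by
  obtain ⟨v, hv⟩ := exists_cyclic hx'
  obtain ⟨c, hc⟩ := exists_pow_sum (F := F) (n := n) (by rw [finrank_fintype_fun_eq_card, hn])
    (toLin'_pow_eq_zero hx) hv (y := Matrix.toLin' y) (by
      rw [Module.End.mul_eq_comp, Module.End.mul_eq_comp, ← Matrix.toLin'_mul, ← Matrix.toLin'_mul,
        hy])
  refine ⟨c, ?_⟩
  apply Matrix.toLin'.injective
  rw [hc, map_sum]
  refine Finset.sum_congr rfl fun i _ => ?_
  rw [map_smul, toLin'_pow']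

theorem mat_pow_sum_injective {n : ℕ} (hx : x ^ n = 0)
    (hx' : x ^ (n - 1) ≠ 0) {c : Fin n → F}
    (h : ∑ i, c i • x ^ (i : ℕ) = 0) : c = 0 := by
  obtain ⟨v, hv⟩ := exists_cyclic hx'
  apply pow_sum_injective (F := F) (toLin'_pow_eq_zero hx) hv
  rw [← map_zero (Matrix.toLin' (R := F) (m := ι) (n := ι)), ← h, map_sum]
  refine Finset.sum_congr rfl fun i _ => ?_
  rw [map_smul, toLin'_pow']

/-- Any two matrices commuting with `x` commute. -/
theorem mat_commute {n : ℕ} (hn : Fintype.card ι = n) (hx : x ^ n = 0)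
    (hx' : x ^ (n - 1) ≠ 0) {y z : Matrix ι ι F} (hy : y * x = x * y) (hz : z * x = x * z) :
    y * z = z * y := by
  obtain ⟨c, rfl⟩ := mat_exists_pow_sum hn hx hx' hy
  have hz' : ∀ i : ℕ, z * x ^ i = x ^ i * z := fun i => (Commute.pow_right hz i)
  rw [Finset.sum_mul, Finset.mul_sum]
  refine Finset.sum_congr rfl fun i _ => ?_
  rw [smul_mul_assoc, mul_smul_comm, hz']

theorem mat_pow_ne_zero (hrank : x.rank = Fintype.card ι - 1) (hpos : 0 < Fintype.card ι)
    {k : ℕ} (hk : k < Fintype.card ι) : x ^ k ≠ 0 := by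
  have h1 := LinearMap.finrank_range_add_finrank_ker (Matrix.toLin' x)
  have h2 : finrank F (LinearMap.range (Matrix.toLin' x)) = Fintype.card ι - 1 := hrank
  rw [h2, finrank_fintype_fun_eq_card] at h1
  have h3 : finrank F (LinearMap.ker (Matrix.toLin' x)) = 1 := by omega
  intro h4
  apply pow_ne_zero_of_finrank_ker h3 (k := k) (by rw [finrank_fintype_fun_eq_card]; exact hk)
  rw [← toLin'_pow', h4, map_zero]

/-- Rank of a single block. -/
theorem mat_rank {n : ℕ} (hn : Fintype.card ι = n) (hpos : 0 < n) (hx : x ^ n = 0)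
    (hx' : x ^ (n - 1) ≠ 0) : x.rank = n - 1 := by
  obtain ⟨v, hv⟩ := exists_cyclic hx'
  have hli := linearIndependent_pow (F := F) (toLin'_pow_eq_zero hx) hv
  apply le_antisymm
  · have h1 := LinearMap.finrank_range_add_finrank_ker (Matrix.toLin' x)
    rw [finrank_fintype_fun_eq_card, hn] at h1
    have h2 : finrank F (LinearMap.range (Matrix.toLin' x)) = x.rank := rfl
    have h3 : 0 < finrank F (LinearMap.ker (Matrix.toLin' x)) := by
      rw [Module.finrank_pos_iff]
      refine ⟨⟨⟨((Matrix.toLin' x) ^ (n - 1)) v, ?_⟩, 0, fun h => hv (congrArg Subtype.val h)⟩⟩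
      rw [LinearMap.mem_ker]
      have h4 := pow_apply_eq_zero (F := F) (toLin'_pow_eq_zero hx) (le_refl n) v
      rw [← h4]
      have h5 := pow_pow_apply (x := Matrix.toLin' x) 1 (n - 1) v
      rw [pow_one] at h5
      rw [h5]
      congr 2
      omega
    omega
  · obtain ⟨k, rfl⟩ : ∃ k, n = k + 1 := ⟨n - 1, by omega⟩
    have hli2 : LinearIndependent F (fun i : Fin k => ((Matrix.toLin' x) ^ ((i : ℕ) + 1)) v) :=
      hli.comp Fin.succ (Fin.succ_injective k)
    have h1 : Submodule.span F (Set.range fun i : Fin k => ((Matrix.toLin' x) ^ ((i : ℕ) + 1)) v) ≤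
        LinearMap.range (Matrix.toLin' x) := by
      rw [Submodule.span_le]
      rintro _ ⟨i, rfl⟩
      refine ⟨((Matrix.toLin' x) ^ (i : ℕ)) v, ?_⟩
      change _ = ((Matrix.toLin' x) ^ ((i : ℕ) + 1)) v
      rw [pow_succ']
      rfl
    have h2 := Submodule.finrank_mono h1
    rw [finrank_span_eq_card hli2, Fintype.card_fin] at h2
    exact h2

end mat

end Cfsg.Agent.H176.SingleBlock
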