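import Mathlib
import Cfsg.Agent.ClassicalGeometry.SympBasic
import Cfsg.Agent.H176.SingleBlock
import Cfsg.Agent.H176.NormOne

set_option autoImplicit false

/-!
Regular unipotent elements of `Sp_2m(F)`, `2 ≠ 0` in `F`.

* `adj X = -(J Xᵀ J)`: the adjoint with respect to the symplectic form;
* `cay u = (u - 1)(u + 1)⁻¹`: the Cayley transform, `adj (cay u) = - cay u`;
* `card_commuting`: for `x` with `adj x = -x`, `x ^ 2m = 0`, `x ^ (2m-1) ≠ 0`, the number of symplectic
  matrices commuting with `x` is `2 q ^ m`;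
* `card_centralizer`: the centraliser of a regular unipotent element has order `2 q ^ m`.
-/

namespace Cfsg.Agent.H176.SpRegular

open Matrix Cfsg.Agent.ClassicalGeometry.SympBasic

variable {F : Type*} [Field F] {m : ℕ}

/-- The adjoint with respect to the symplectic form. -/
def adj (X : Matrix (Fin m ⊕ Fin m) (Fin m ⊕ Fin m) F) : Matrix (Fin m ⊕ Fin m) (Fin m ⊕ Fin m) F :=
  -(J (Fin m) F * Xᵀ * J (Fin m) F)

theorem adj_def (X : Matrix (Fin m ⊕ Fin m) (Fin m ⊕ Fin m) F) :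
    adj X = -(J (Fin m) F * Xᵀ * J (Fin m) F) := rfl

theorem adj_add (X Y : Matrix (Fin m ⊕ Fin m) (Fin m ⊕ Fin m) F) : adj (X + Y) = adj X + adj Y := by
  rw [adj_def, adj_def, adj_def, transpose_add, Matrix.mul_add, Matrix.add_mul, neg_add]

theorem adj_neg (X : Matrix (Fin m ⊕ Fin m) (Fin m ⊕ Fin m) F) : adj (-X) = -adj X := by
  rw [adj_def, adj_def, transpose_neg, Matrix.mul_neg, Matrix.neg_mul]

theorem adj_sub (X Y : Matrix (Fin m ⊕ Fin m) (Fin m ⊕ Fin m) F) : adj (X - Y) = adj X - adj Y := by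
  rw [sub_eq_add_neg, adj_add, adj_neg, ← sub_eq_add_neg]

theorem adj_smul (c : F) (X : Matrix (Fin m ⊕ Fin m) (Fin m ⊕ Fin m) F) :
    adj (c • X) = c • adj X := by
  rw [adj_def, adj_def, transpose_smul, Matrix.mul_smul, Matrix.smul_mul, smul_neg]

theorem adj_one : adj (1 : Matrix (Fin m ⊕ Fin m) (Fin m ⊕ Fin m) F) = 1 := by
  rw [adj_def, transpose_one, Matrix.mul_one, J_squared, neg_neg]

theorem adj_zero : adj (0 : Matrix (Fin m ⊕ Fin m) (Fin m ⊕ Fin m) F) = 0 := by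
  rw [adj_def, transpose_zero, Matrix.mul_zero, Matrix.zero_mul, neg_zero]

theorem adj_mul (X Y : Matrix (Fin m ⊕ Fin m) (Fin m ⊕ Fin m) F) : adj (X * Y) = adj Y * adj X := by
  rw [adj_def, adj_def, adj_def, transpose_mul, Matrix.neg_mul, Matrix.mul_neg, neg_neg]
  have h : J (Fin m) F * Yᵀ * J (Fin m) F * (J (Fin m) F * Xᵀ * J (Fin m) F) =
      J (Fin m) F * Yᵀ * (J (Fin m) F * J (Fin m) F) * Xᵀ * J (Fin m) F := by
    simp only [Matrix.mul_assoc]
  rw [h, J_squared]
  simp only [Matrix.mul_neg, Matrix.mul_one, Matrix.neg_mul, Matrix.mul_assoc]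

theorem adj_adj (X : Matrix (Fin m ⊕ Fin m) (Fin m ⊕ Fin m) F) : adj (adj X) = X := by
  rw [adj_def, adj_def, transpose_neg, transpose_mul, transpose_mul, transpose_transpose,
    J_transpose]
  have h : J (Fin m) F * (-(-J (Fin m) F * (X * -J (Fin m) F))) * J (Fin m) F =
      -((J (Fin m) F * J (Fin m) F) * X * (J (Fin m) F * J (Fin m) F)) := by
    simp only [Matrix.mul_neg, Matrix.neg_mul, neg_neg, Matrix.mul_assoc]
  rw [h, J_squared]
  simp

theorem adj_pow (X : Matrix (Fin m ⊕ Fin m) (Fin m ⊕ Fin m) F) (k : ℕ) :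
    adj (X ^ k) = (adj X) ^ k := by
  induction k with
  | zero => rw [pow_zero, pow_zero, adj_one]
  | succ k ih => rw [pow_succ, adj_mul, ih, pow_succ']

theorem adj_sum {κ : Type*} (s : Finset κ) (f : κ → Matrix (Fin m ⊕ Fin m) (Fin m ⊕ Fin m) F) :
    adj (∑ i ∈ s, f i) = ∑ i ∈ s, adj (f i) := by
  classical
  induction s using Finset.induction_on with
  | empty => rw [Finset.sum_empty, Finset.sum_empty, adj_zero]
  | insert i s hi ih => rw [Finset.sum_insert hi, Finset.sum_insert hi, adj_add, ih]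

theorem mem_iff_mul_adj {X : Matrix (Fin m ⊕ Fin m) (Fin m ⊕ Fin m) F} :
    X ∈ symplecticGroup (Fin m) F ↔ X * adj X = 1 := by
  rw [SymplecticGroup.mem_iff, adj_def]
  have h : X * -(J (Fin m) F * Xᵀ * J (Fin m) F) = -(X * J (Fin m) F * Xᵀ * J (Fin m) F) := by
    simp only [Matrix.mul_neg, Matrix.mul_assoc]
  rw [h]
  constructor
  · intro h1
    rw [h1, J_squared, neg_neg]
  · intro h1
    have h2 := congrArg (fun Y => Y * J (Fin m) F) h1
    simp only [Matrix.neg_mul, Matrix.one_mul] at h2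
    rw [Matrix.mul_assoc _ (J (Fin m) F) (J (Fin m) F), J_squared, Matrix.mul_neg, neg_neg,
      Matrix.mul_one] at h2
    exact h2

theorem adj_mul_self {X : Matrix (Fin m ⊕ Fin m) (Fin m ⊕ Fin m) F}
    (hX : X ∈ symplecticGroup (Fin m) F) : adj X * X = 1 :=
  mul_eq_one_comm.1 (mem_iff_mul_adj.1 hX)

theorem sympForm_adj (X : Matrix (Fin m ⊕ Fin m) (Fin m ⊕ Fin m) F) (v w : Fin m ⊕ Fin m → F) :
    sympForm m F (X *ᵥ v) w = sympForm m F v (adj X *ᵥ w) := by
  rw [sympForm_def, sympForm_def, Matrix.mulVec_mulVec, adj_def, Matrix.mul_neg,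
    ← Matrix.mul_assoc, ← Matrix.mul_assoc, J_squared]
  have h : -(-1 * Xᵀ * J (Fin m) F) = Xᵀ * J (Fin m) F := by
    rw [Matrix.neg_mul, Matrix.one_mul, Matrix.neg_mul, neg_neg]
  rw [h, ← Matrix.mulVec_mulVec, Matrix.dotProduct_mulVec v, Matrix.vecMul_transpose]

theorem card_index : Fintype.card (Fin m ⊕ Fin m) = 2 * m := by
  rw [Fintype.card_sum, Fintype.card_fin, two_mul]

/-! ### The ring of matrices commuting with `x` -/

section comm

variable {x : Matrix (Fin m ⊕ Fin m) (Fin m ⊕ Fin m) F}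

theorem mem_cent {y : Matrix (Fin m ⊕ Fin m) (Fin m ⊕ Fin m) F} :
    y ∈ Subring.centralizer ({x} : Set (Matrix (Fin m ⊕ Fin m) (Fin m ⊕ Fin m) F)) ↔
      y * x = x * y := by
  rw [Subring.mem_centralizer_iff]
  constructor
  · intro h; exact (h x rfl).symm
  · rintro h _ rfl; exact h.symm

theorem adj_mem_cent (hx : adj x = -x) {y : Matrix (Fin m ⊕ Fin m) (Fin m ⊕ Fin m) F}
    (hy : y * x = x * y) : adj y * x = x * adj y := by
  have h := congrArg adj hy
  rw [adj_mul, adj_mul, hx, Matrix.neg_mul, Matrix.mul_neg, neg_inj] at h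
  exact h.symm

theorem card_odd (m : ℕ) : Nat.card {i : Fin (2 * m) // ¬ Even (i : ℕ)} = m := by
  have e : Fin m ≃ {i : Fin (2 * m) // ¬ Even (i : ℕ)} := by
    refine Equiv.ofBijective (fun j => ⟨⟨2 * (j : ℕ) + 1, by omega⟩, ?_⟩) ⟨?_, ?_⟩
    · simp
    · intro j j' h
      have := congrArg (fun z => ((z : {i : Fin (2 * m) // ¬ Even (i : ℕ)}).1 : ℕ)) h
      simp only at this
      exact Fin.ext (by omega)
    · rintro ⟨i, hi⟩
      rw [Nat.not_even_iff_odd] at hi
      obtain ⟨k, hk⟩ := hi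
      refine ⟨⟨k, by omega⟩, ?_⟩
      apply Subtype.ext
      apply Fin.ext
      simp only
      omega
  rw [← Nat.card_congr e, Nat.card_eq_fintype_card, Fintype.card_fin]

/-- The number of symplectic matrices commuting with a regular nilpotent element of the Lie algebra. -/
theorem card_commuting [Fintype F] (h2 : (2 : F) ≠ 0) (hm : 1 ≤ m) (hx : adj x = -x)
    (hx0 : x ^ (2 * m) = 0) (hx1 : x ^ (2 * m - 1) ≠ 0) :
    Nat.card {g : Matrix (Fin m ⊕ Fin m) (Fin m ⊕ Fin m) F //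
      g ∈ symplecticGroup (Fin m) F ∧ g * x = x * g} = 2 * Fintype.card F ^ m := by
  classical
  set A := Subring.centralizer ({x} : Set (Matrix (Fin m ⊕ Fin m) (Fin m ⊕ Fin m) F)) with hA
  have hcomm : ∀ a b : A, a * b = b * a := fun a b => Subtype.ext
    (SingleBlock.mat_commute card_index hx0 hx1 (mem_cent.1 a.2) (mem_cent.1 b.2))
  let _ : CommRing A := { (inferInstance : Ring A) with mul_comm := hcomm }
  let X : A := ⟨x, mem_cent.2 rfl⟩
  have hXn : X ^ (2 * m) = 0 := Subtype.ext hx0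
  let sc : F → A := fun c => ⟨c • (1 : Matrix (Fin m ⊕ Fin m) (Fin m ⊕ Fin m) F),
    mem_cent.2 (by rw [Matrix.smul_mul, Matrix.mul_smul, Matrix.one_mul, Matrix.mul_one])⟩
  obtain ⟨k, hk⟩ : ∃ k, 2 * m = k + 1 := ⟨2 * m - 1, by omega⟩
  -- the decomposition `a = c + x b`
  have hdec : ∀ a : A, ∃ (c : F) (b : A), a = sc c + X * b := by
    intro a
    obtain ⟨c, hc⟩ := SingleBlock.mat_exists_pow_sum card_index hx0 hx1 (mem_cent.1 a.2)
    have hb : (∑ i : Fin k, c (Fin.cast hk.symm i.succ) • x ^ (i : ℕ)) * x =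
        x * ∑ i : Fin k, c (Fin.cast hk.symm i.succ) • x ^ (i : ℕ) := by
      rw [Finset.sum_mul, Finset.mul_sum]
      refine Finset.sum_congr rfl fun i _ => ?_
      rw [smul_mul_assoc, mul_smul_comm, ← pow_succ, ← pow_succ']
    refine ⟨c ⟨0, by omega⟩, ⟨_, mem_cent.2 hb⟩, ?_⟩
    apply Subtype.ext
    rw [Subring.coe_add, Subring.coe_mul]
    change (a : Matrix (Fin m ⊕ Fin m) (Fin m ⊕ Fin m) F) =
      c ⟨0, by omega⟩ • 1 + x * ∑ i : Fin k, c (Fin.cast hk.symm i.succ) • x ^ (i : ℕ)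
    rw [hc, ← (finCongr hk.symm).sum_comp (fun i : Fin (2 * m) => c i • x ^ (i : ℕ)),
      Fin.sum_univ_succ, Finset.mul_sum]
    refine congrArg₂ (· + ·) ?_ ?_
    · change c _ • x ^ 0 = _
      rw [pow_zero]
      rfl
    · refine Finset.sum_congr rfl fun i _ => ?_
      rw [mul_smul_comm, ← pow_succ']
      rfl
  -- the eigenvector
  obtain ⟨v, hv⟩ := SingleBlock.exists_vec hx1
  set v₁ := (x ^ (2 * m - 1)) *ᵥ v with hv₁
  have hxv : x *ᵥ v₁ = 0 := by
    rw [hv₁, Matrix.mulVec_mulVec, ← pow_succ', Nat.sub_add_cancel (by omega), hx0,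
      Matrix.zero_mulVec]
  have hval : ∀ (c : F) (b : A), ((sc c + X * b : A) :
      Matrix (Fin m ⊕ Fin m) (Fin m ⊕ Fin m) F) *ᵥ v₁ = c • v₁ := by
    intro c b
    rw [hcomm X b, Subring.coe_add, Subring.coe_mul, Matrix.add_mulVec, ← Matrix.mulVec_mulVec]
    change (c • (1 : Matrix (Fin m ⊕ Fin m) (Fin m ⊕ Fin m) F)) *ᵥ v₁ + _ *ᵥ (x *ᵥ v₁) = _
    rw [hxv, Matrix.mulVec_zero, add_zero, Matrix.smul_mulVec, Matrix.one_mulVec]
  have hex : ∀ a : A, ∃ c : F, (a : Matrix (Fin m ⊕ Fin m) (Fin m ⊕ Fin m) F) *ᵥ v₁ = c • v₁ := by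
    intro a
    obtain ⟨c, b, rfl⟩ := hdec a
    exact ⟨c, hval c b⟩
  choose r hr using hex
  have huniq : ∀ (a : A) (c : F), (a : Matrix (Fin m ⊕ Fin m) (Fin m ⊕ Fin m) F) *ᵥ v₁ = c • v₁ →
      r a = c := by
    intro a c hc
    rw [hr a] at hc
    exact smul_left_injective F hv hc
  let ρ : A →+* F :=
    { toFun := r
      map_one' := huniq _ _ (by rw [OneMemClass.coe_one, Matrix.one_mulVec, one_smul])
      map_zero' := huniq _ _ (by rw [ZeroMemClass.coe_zero, Matrix.zero_mulVec, zero_smul])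
      map_add' := fun a b => huniq _ _ (by
        rw [Subring.coe_add, Matrix.add_mulVec, hr a, hr b, add_smul])
      map_mul' := fun a b => huniq _ _ (by
        rw [Subring.coe_mul, ← Matrix.mulVec_mulVec, hr b, Matrix.mulVec_smul, hr a, smul_smul,
          mul_comm]) }
  let σ : A →+* A :=
    { toFun := fun a => ⟨adj a, mem_cent.2 (adj_mem_cent hx (mem_cent.1 a.2))⟩
      map_one' := Subtype.ext adj_one
      map_zero' := Subtype.ext adj_zero
      map_add' := fun a b => Subtype.ext (adj_add _ _)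
      map_mul' := fun a b => by
        rw [hcomm a b]
        exact Subtype.ext (adj_mul _ _) }
  have hρ : ∀ a, ρ (σ a) = ρ a := by
    intro a
    obtain ⟨c, b, rfl⟩ := hdec a
    have h1 : σ (sc c + X * b) = sc c + X * (-σ b) := by
      rw [map_add, map_mul]
      have h3 : σ X = -X := Subtype.ext hx
      have h4 : σ (sc c) = sc c := Subtype.ext (by
        change adj (c • 1) = c • 1
        rw [adj_smul, adj_one])
      rw [h3, h4]
      ring
    rw [h1]
    change r _ = r _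
    rw [huniq _ _ (hval c _), huniq _ _ (hval c _)]
  have hunit : ∀ a, ρ a ≠ 0 → IsUnit a := by
    intro a ha
    obtain ⟨c, b, rfl⟩ := hdec a
    have hc : c ≠ 0 := by
      intro h
      apply ha
      change r _ = 0
      rw [huniq _ _ (hval c _), h]
    have h1 : sc c * (1 + sc c⁻¹ * (X * b)) = sc c + X * b := by
      have h3 : sc c * sc c⁻¹ = 1 := by
        apply Subtype.ext
        change (c • (1 : Matrix (Fin m ⊕ Fin m) (Fin m ⊕ Fin m) F)) * (c⁻¹ • 1) = 1
        rw [Matrix.smul_mul, Matrix.one_mul, smul_smul, mul_inv_cancel₀ hc, one_smul]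
      linear_combination X * b * h3
    rw [← h1]
    apply IsUnit.mul
    · apply IsUnit.of_mul_eq_one (sc c⁻¹)
      apply Subtype.ext
      change (c • (1 : Matrix (Fin m ⊕ Fin m) (Fin m ⊕ Fin m) F)) * (c⁻¹ • 1) = 1
      rw [Matrix.smul_mul, Matrix.one_mul, smul_smul, mul_inv_cancel₀ hc, one_smul]
    · apply IsNilpotent.isUnit_one_add
      refine ⟨2 * m, ?_⟩
      have h3 : sc c⁻¹ * (X * b) = X * (sc c⁻¹ * b) := by ring
      rw [h3, mul_pow, hXn, zero_mul]
  have main := NormOne.card_norm_one σ ρ hρ hunit h2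
  -- the left side
  have e1 : {a : A // a * σ a = 1} ≃ {g : Matrix (Fin m ⊕ Fin m) (Fin m ⊕ Fin m) F //
      g ∈ symplecticGroup (Fin m) F ∧ g * x = x * g} :=
    { toFun := fun a => ⟨a.1.1, mem_iff_mul_adj.2 (congrArg Subtype.val a.2), mem_cent.1 a.1.2⟩
      invFun := fun g => ⟨⟨g.1, mem_cent.2 g.2.2⟩, Subtype.ext (mem_iff_mul_adj.1 g.2.1)⟩
      left_inv := fun _ => rfl
      right_inv := fun _ => rfl }
  rw [Nat.card_congr e1] at main
  rw [main]
  congr 1
  -- the skew elements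
  have e2 : {y : A // σ y = -y} ≃ {c : Fin (2 * m) → F //
      c ∘ (Subtype.val : {i : Fin (2 * m) // Even (i : ℕ)} → Fin (2 * m)) = fun _ => 0} := by
    symm
    have hadjX : ∀ c : Fin (2 * m) → F, adj (∑ i : Fin (2 * m), c i • x ^ (i : ℕ)) =
        ∑ i : Fin (2 * m), ((-1) ^ (i : ℕ) * c i) • x ^ (i : ℕ) := by
      intro c
      rw [adj_sum]
      refine Finset.sum_congr rfl fun i _ => ?_
      rw [adj_smul, adj_pow, hx, neg_pow, mul_comm ((-1 : F) ^ (i : ℕ)), mul_smul]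
      congr 1
      rw [Algebra.smul_def, map_pow, map_neg, map_one]
    refine Equiv.ofBijective (fun c => ⟨⟨∑ i : Fin (2 * m), c.1 i • x ^ (i : ℕ), ?_⟩, ?_⟩) ⟨?_, ?_⟩
    · rw [mem_cent, Finset.sum_mul, Finset.mul_sum]
      refine Finset.sum_congr rfl fun i _ => ?_
      rw [smul_mul_assoc, mul_smul_comm, ← pow_succ, ← pow_succ']
    · apply Subtype.ext
      change adj _ = -_
      rw [hadjX, ← Finset.sum_neg_distrib]
      refine Finset.sum_congr rfl fun i _ => ?_
      rw [← neg_smul]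
      congr 1
      by_cases hi : Even (i : ℕ)
      · have : c.1 i = 0 := congrFun c.2 ⟨i, hi⟩
        rw [this, mul_zero, neg_zero]
      · rw [Nat.not_even_iff_odd] at hi
        rw [hi.neg_one_pow, neg_one_mul]
    · intro c c' h
      have h1 : ∑ i : Fin (2 * m), c.1 i • x ^ (i : ℕ) = ∑ i : Fin (2 * m), c'.1 i • x ^ (i : ℕ) :=
        congrArg (fun z : {y : A // σ y = -y} => (z.1 : Matrix (Fin m ⊕ Fin m) (Fin m ⊕ Fin m) F)) h
      apply Subtype.ext
      have h3 : c.1 - c'.1 = 0 := by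
        apply SingleBlock.mat_pow_sum_injective hx0 hx1
        have h4 : ∀ i, (c.1 - c'.1) i • x ^ (i : ℕ) = c.1 i • x ^ (i : ℕ) - c'.1 i • x ^ (i : ℕ) :=
          fun i => by rw [Pi.sub_apply, sub_smul]
        rw [Finset.sum_congr rfl (fun i _ => h4 i), Finset.sum_sub_distrib, h1, sub_self]
      exact sub_eq_zero.1 h3
    · rintro ⟨⟨y, hy⟩, hy2⟩
      obtain ⟨c, hc⟩ := SingleBlock.mat_exists_pow_sum card_index hx0 hx1 (mem_cent.1 hy)
      have h1 : adj y = -y := congrArg Subtype.val hy2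
      refine ⟨⟨c, ?_⟩, ?_⟩
      · funext i
        obtain ⟨i, hi⟩ := i
        change c i = 0
        rw [hc, hadjX] at h1
        have h3 : (fun i : Fin (2 * m) => (-1) ^ (i : ℕ) * c i + c i) = 0 := by
          apply SingleBlock.mat_pow_sum_injective hx0 hx1
          have h4 : ∀ i : Fin (2 * m), ((-1) ^ (i : ℕ) * c i + c i) • x ^ (i : ℕ) =
              ((-1) ^ (i : ℕ) * c i) • x ^ (i : ℕ) + c i • x ^ (i : ℕ) :=
            fun i => add_smul _ _ _
          rw [Finset.sum_congr rfl (fun i _ => h4 i), Finset.sum_add_distrib, h1]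
          exact neg_add_cancel _
        have h5 := congrFun h3 i
        simp only [Pi.zero_apply] at h5
        rw [hi.neg_one_pow, one_mul] at h5
        have h6 : (2 : F) * c i = 0 := by linear_combination h5
        exact (mul_eq_zero.1 h6).resolve_left h2
      · apply Subtype.ext
        apply Subtype.ext
        exact hc.symm
  rw [Nat.card_congr e2, Nat.card_congr (Equiv.subtypePreimage _ _), Nat.card_fun, card_odd,
    Nat.card_eq_fintype_card]

end comm

/-! ### The Cayley transform -/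

section cayley

variable {u x : Matrix (Fin m ⊕ Fin m) (Fin m ⊕ Fin m) F}

theorem exists_inv {R : Type*} [Monoid R] {a : R} (h : IsUnit a) :
    ∃ b, a * b = 1 ∧ b * a = 1 := by
  obtain ⟨w, rfl⟩ := h
  exact ⟨_, w.mul_inv, w.inv_mul⟩

/-- `x` is the Cayley transform `(u - 1)(u + 1)⁻¹` of `u`. -/
structure IsCay (u x : Matrix (Fin m ⊕ Fin m) (Fin m ⊕ Fin m) F) : Prop where
  left : (1 - x) * (u + 1) = 2
  right : (u + 1) * (1 - x) = 2

theorem isUnit_two (h2 : (2 : F) ≠ 0) : IsUnit (2 : Matrix (Fin m ⊕ Fin m) (Fin m ⊕ Fin m) F) := by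
  have h := (isUnit_iff_ne_zero.2 h2).map
    (algebraMap F (Matrix (Fin m ⊕ Fin m) (Fin m ⊕ Fin m) F))
  rwa [map_ofNat] at h

theorem IsCay.isUnit_add (h2 : (2 : F) ≠ 0) (h : IsCay u x) : IsUnit (u + 1) := by
  have h1 := isUnit_two (m := m) h2
  have h3 : (u + 1) * ((1 - x) * Ring.inverse 2) = 1 := by
    rw [← mul_assoc, h.right, Ring.mul_inverse_cancel _ h1]
  exact IsUnit.of_mul_eq_one _ h3

theorem IsCay.isUnit_sub (h2 : (2 : F) ≠ 0) (h : IsCay u x) : IsUnit (1 - x) := by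
  have h1 := isUnit_two (m := m) h2
  have h3 : (1 - x) * ((u + 1) * Ring.inverse 2) = 1 := by
    rw [← mul_assoc, h.left, Ring.mul_inverse_cancel _ h1]
  exact IsUnit.of_mul_eq_one _ h3

theorem IsCay.mul_eq (h : IsCay u x) : x * (u + 1) = u - 1 := by
  have h1 : x * (u + 1) = (u + 1) - (1 - x) * (u + 1) := by noncomm_ring
  rw [h1, h.left]
  have h3 : (2 : Matrix (Fin m ⊕ Fin m) (Fin m ⊕ Fin m) F) = 1 + 1 := by norm_num
  rw [h3]
  abel

theorem IsCay.mul_eq' (h : IsCay u x) : (u + 1) * x = u - 1 := by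
  have h1 : (u + 1) * x = (u + 1) - (u + 1) * (1 - x) := by noncomm_ring
  rw [h1, h.right]
  have h3 : (2 : Matrix (Fin m ⊕ Fin m) (Fin m ⊕ Fin m) F) = 1 + 1 := by norm_num
  rw [h3]
  abel

theorem IsCay.unique (h2 : (2 : F) ≠ 0) {x' : Matrix (Fin m ⊕ Fin m) (Fin m ⊕ Fin m) F}
    (h : IsCay u x) (h' : IsCay u x') : x = x' := by
  have h1 : x * (u + 1) = x' * (u + 1) := by rw [h.mul_eq, h'.mul_eq]
  exact (h.isUnit_add h2).mul_right_cancel h1

theorem IsCay.unique' (h2 : (2 : F) ≠ 0) {u' : Matrix (Fin m ⊕ Fin m) (Fin m ⊕ Fin m) F}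
    (h : IsCay u x) (h' : IsCay u' x) : u = u' := by
  have h1 : (1 - x) * (u + 1) = (1 - x) * (u' + 1) := by rw [h.left, h'.left]
  exact add_right_cancel ((h.isUnit_sub h2).mul_left_cancel h1)

theorem IsCay.commute_iff (h2 : (2 : F) ≠ 0) (h : IsCay u x)
    (y : Matrix (Fin m ⊕ Fin m) (Fin m ⊕ Fin m) F) : y * u = u * y ↔ y * x = x * y := by
  constructor
  · intro hy
    have h1 : (y * x) * (u + 1) = (x * y) * (u + 1) := by
      rw [mul_assoc, h.mul_eq, mul_assoc, mul_add, mul_one, hy]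
      have h3 : x * (u * y + y) = x * (u + 1) * y := by noncomm_ring
      rw [h3, h.mul_eq, mul_sub, hy]
      noncomm_ring
    exact (h.isUnit_add h2).mul_right_cancel h1
  · intro hy
    have h1 : (1 - x) * (y * (u + 1)) = (1 - x) * ((u + 1) * y) := by
      have h3 : (1 - x) * (y * (u + 1)) = y * ((1 - x) * (u + 1)) +
        (y * x - x * y) * (u + 1) := by noncomm_ring
      rw [h3, h.left, hy, sub_self, zero_mul, add_zero, ← mul_assoc, h.left]
      have h4 : (2 : Matrix (Fin m ⊕ Fin m) (Fin m ⊕ Fin m) F) = 1 + 1 := by norm_num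
      rw [h4]
      noncomm_ring
    have h5 := (h.isUnit_sub h2).mul_left_cancel h1
    rw [mul_add, add_mul, mul_one, one_mul] at h5
    exact add_right_cancel h5

theorem IsCay.commute (h : IsCay u x) : x * u = u * x := by
  have h1 : x * (u + 1) = (u + 1) * x := by rw [h.mul_eq, h.mul_eq']
  rw [mul_add, add_mul, mul_one, one_mul] at h1
  exact add_right_cancel h1

/-- Conjugation. -/
theorem IsCay.conj {g g' : Matrix (Fin m ⊕ Fin m) (Fin m ⊕ Fin m) F} (hg : g * g' = 1)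
    (hg' : g' * g = 1) (h : IsCay u x) : IsCay (g * u * g') (g * x * g') := by
  have h1 : (1 : Matrix (Fin m ⊕ Fin m) (Fin m ⊕ Fin m) F) - g * x * g' = g * (1 - x) * g' := by
    rw [mul_sub, sub_mul, mul_one, hg]
  have h3 : g * u * g' + 1 = g * (u + 1) * g' := by
    rw [mul_add, add_mul, mul_one, hg]
  have h4 : g * 2 * g' = 2 := by
    have : (2 : Matrix (Fin m ⊕ Fin m) (Fin m ⊕ Fin m) F) = 1 + 1 := by norm_num
    rw [this, mul_add, add_mul, mul_one, hg]
  constructor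
  · rw [h1, h3]
    have : g * (1 - x) * g' * (g * (u + 1) * g') = g * (1 - x) * (g' * g) * (u + 1) * g' := by
      noncomm_ring
    rw [this, hg', mul_one, mul_assoc g, h.left, h4]
  · rw [h1, h3]
    have : g * (u + 1) * g' * (g * (1 - x) * g') = g * (u + 1) * (g' * g) * (1 - x) * g' := by
      noncomm_ring
    rw [this, hg', mul_one, mul_assoc g, h.right, h4]

/-- Existence of the Cayley transform of a unipotent element. -/
theorem exists_cay (h2 : (2 : F) ≠ 0) {n : ℕ} (hu : (u - 1) ^ n = 0) : ∃ x, IsCay u x := by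
  have h1 := isUnit_two (m := m) h2
  have h3 : IsUnit (u + 1) := by
    have h4 : u + 1 = 2 + (u - 1) := by
      have : (2 : Matrix (Fin m ⊕ Fin m) (Fin m ⊕ Fin m) F) = 1 + 1 := by norm_num
      rw [this]
      abel
    rw [h4]
    refine IsNilpotent.isUnit_add_left_of_commute ⟨n, hu⟩ h1 ?_
    have : Commute (u - 1) ((1 : Matrix (Fin m ⊕ Fin m) (Fin m ⊕ Fin m) F) + 1) :=
      (Commute.one_right _).add_right (Commute.one_right _)
    rwa [one_add_one_eq_two] at this
  obtain ⟨w, hw1, hw2⟩ := exists_inv h3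
  refine ⟨1 - 2 * w, ?_, ?_⟩
  · rw [sub_sub_cancel, mul_assoc, hw2, mul_one]
  · rw [sub_sub_cancel]
    have h4 : (u + 1) * (2 * w) = 2 * ((u + 1) * w) := by
      have : (2 : Matrix (Fin m ⊕ Fin m) (Fin m ⊕ Fin m) F) = 1 + 1 := by norm_num
      rw [this]
      noncomm_ring
    rw [h4, hw1, mul_one]

theorem IsCay.adj_eq (h2 : (2 : F) ≠ 0) (h : IsCay u x) (hu : u ∈ symplecticGroup (Fin m) F) :
    adj x = -x := by
  have h1 := mem_iff_mul_adj.1 hu
  have h3 := adj_mul_self hu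
  have h4 := congrArg adj h.mul_eq
  rw [adj_mul, adj_add, adj_sub, adj_one] at h4
  -- h4 : (adj u + 1) * adj x = adj u - 1
  have h5 : (u + 1) * adj x = (u + 1) * (-x) := by
    have h6 : (u + 1) * adj x = u * ((adj u + 1) * adj x) := by
      have : u * ((adj u + 1) * adj x) = (u * adj u + u) * adj x := by noncomm_ring
      rw [this, h1, add_comm]
    rw [h6, h4, mul_neg, h.mul_eq', mul_sub, h1, mul_one]
    abel
  exact (h.isUnit_add h2).mul_left_cancel h5

theorem IsCay.mem (h2 : (2 : F) ≠ 0) (h : IsCay u x) (hx : adj x = -x) :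
    u ∈ symplecticGroup (Fin m) F := by
  rw [mem_iff_mul_adj]
  -- `(1 - x)(u + 1) = 2`, `(adj u + 1)(1 + x) = 2`
  have h1 := congrArg adj h.left
  have h3 : adj (2 : Matrix (Fin m ⊕ Fin m) (Fin m ⊕ Fin m) F) = 2 := by
    have : (2 : Matrix (Fin m ⊕ Fin m) (Fin m ⊕ Fin m) F) = 1 + 1 := by norm_num
    rw [this, adj_add, adj_one]
  rw [adj_mul, adj_add, adj_sub, adj_one, hx, sub_neg_eq_add, h3] at h1
  -- (adj u + 1) * (1 + x) = 2
  have h5 : (1 + x) * (u + 1) = 2 * u := by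
    have h6 : (1 + x) * (u + 1) = (u + 1) + x * (u + 1) := by noncomm_ring
    rw [h6, h.mul_eq, two_mul]
    abel
  -- `(adj u + 1)(1 + x)(u + 1) = 2 (u + 1)` and `= (adj u + 1) 2 u`
  have h7 : (adj u + 1) * (2 * u) = 2 * (u + 1) := by
    rw [← h5, ← mul_assoc, h1]
  have h8 : (2 : Matrix (Fin m ⊕ Fin m) (Fin m ⊕ Fin m) F) * (adj u * u) = 2 * 1 := by
    have h9 : (adj u + 1) * (2 * u) = 2 * (adj u * u) + 2 * u := by
      have : (2 : Matrix (Fin m ⊕ Fin m) (Fin m ⊕ Fin m) F) = 1 + 1 := by norm_num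
      rw [this]
      noncomm_ring
    rw [h9, mul_add] at h7
    exact add_right_cancel (h7.trans (add_comm _ _))
  exact mul_eq_one_comm.1 ((isUnit_two h2).mul_left_cancel h8)

theorem IsCay.pow_eq (h : IsCay u x) (k : ℕ) : x ^ k * (u + 1) ^ k = (u - 1) ^ k := by
  have hc : Commute x (u + 1) := by
    change x * (u + 1) = (u + 1) * x
    rw [h.mul_eq, h.mul_eq']
  rw [← hc.mul_pow, h.mul_eq]

theorem IsCay.pow_eq_zero_iff (h2 : (2 : F) ≠ 0) (h : IsCay u x) (k : ℕ) :
    x ^ k = 0 ↔ (u - 1) ^ k = 0 := by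
  rw [← h.pow_eq]
  constructor
  · intro h1
    rw [h1, zero_mul]
  · intro h1
    exact ((h.isUnit_add h2).pow k).mul_left_eq_zero.1 h1

/-- Every nilpotent `x` is a Cayley transform. -/
theorem exists_of_nilpotent {n : ℕ} (hx : x ^ n = 0) : ∃ u, IsCay u x := by
  have h1 : IsUnit (1 - x) := IsNilpotent.isUnit_one_sub ⟨n, hx⟩
  obtain ⟨w, hw1, hw2⟩ := exists_inv h1
  refine ⟨2 * w - 1, ?_, ?_⟩
  · rw [sub_add_cancel]
    have h4 : (1 - x) * (2 * w) = 2 * ((1 - x) * w) := by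
      have : (2 : Matrix (Fin m ⊕ Fin m) (Fin m ⊕ Fin m) F) = 1 + 1 := by norm_num
      rw [this]
      noncomm_ring
    rw [h4, hw1, mul_one]
  · rw [sub_add_cancel, mul_assoc, hw2, mul_one]

end cayley

theorem pow_ne_zero_of_rank (hm : 1 ≤ m) {N : Matrix (Fin m ⊕ Fin m) (Fin m ⊕ Fin m) F}
    (hN : N.rank = 2 * m - 1) : N ^ (2 * m - 1) ≠ 0 := by
  apply SingleBlock.mat_pow_ne_zero
  · rw [hN, card_index]
  · rw [card_index]; omega
  · rw [card_index]; omega

/-- **The centraliser of a regular unipotent element of `Sp_2m(q)`, `q` odd, has order `2 q ^ m`.** -/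
theorem card_centralizer [Fintype F] (h2 : (2 : F) ≠ 0) (hm : 1 ≤ m)
    (u : Matrix.symplecticGroup (Fin m) F)
    (hnil : ((u : Matrix (Fin m ⊕ Fin m) (Fin m ⊕ Fin m) F) - 1) ^ (2 * m) = 0)
    (hreg : ((u : Matrix (Fin m ⊕ Fin m) (Fin m ⊕ Fin m) F) - 1) ^ (2 * m - 1) ≠ 0) :
    Nat.card ↥(Subgroup.centralizer ({u} : Set ↥(Matrix.symplecticGroup (Fin m) F))) =
      2 * Fintype.card F ^ m := by
  obtain ⟨x, hx⟩ := exists_cay h2 hnil
  have hadj := hx.adj_eq h2 u.2
  have h0 := (hx.pow_eq_zero_iff h2 _).2 hnil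
  have h1 : x ^ (2 * m - 1) ≠ 0 := fun h => hreg ((hx.pow_eq_zero_iff h2 _).1 h)
  rw [← card_commuting h2 hm hadj h0 h1]
  refine Nat.card_congr
    { toFun := fun g => ⟨g.1.1, g.1.2, (hx.commute_iff h2 _).1 ?_⟩
      invFun := fun g => ⟨⟨g.1, g.2.1⟩, ?_⟩
      left_inv := fun _ => rfl
      right_inv := fun _ => rfl }
  · have := Subgroup.mem_centralizer_iff.1 g.2 u rfl
    exact (congrArg Subtype.val this).symm
  · rw [Subgroup.mem_centralizer_iff]
    rintro _ rfl
    exact Subtype.ext ((hx.commute_iff h2 _).2 g.2.2).symm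

end Cfsg.Agent.H176.SpRegular
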