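import Mathlib

set_option autoImplicit false

/-!
Non-degenerate symmetric bilinear forms over a field of characteristic two in which every element is a
square (e.g. a finite field): a form that is not alternating has an orthonormal basis.
-/

namespace Cfsg.Agent.H176.SymmCharTwo

/-- In characteristic two, every element of a finite field is a square. -/
theorem exists_sq {F : Type*} [Field F] [Finite F] [CharP F 2] (c : F) : ∃ d : F, d * d = c := by
  have := Fintype.ofFinite F
  obtain ⟨d, hd⟩ := FiniteField.isSquare_of_char_two (CharP.ringChar_of_prime_eq_zero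
      (Nat.prime_two) (CharP.cast_eq_zero F 2)) c
  exact ⟨d, hd.symm⟩

section
variable {F V : Type*} [Field F] [AddCommGroup V] [Module F V]

theorem exists_self_eq_one (hsq : ∀ c : F, ∃ d : F, d * d = c) (B : LinearMap.BilinForm F V)
    (hna : ∃ v : V, B v v ≠ 0) : ∃ v : V, B v v = 1 := by
  obtain ⟨v, hv⟩ := hna
  obtain ⟨d, hd⟩ := hsq (B v v)⁻¹
  refine ⟨d • v, ?_⟩
  simp only [map_smul, LinearMap.smul_apply, smul_eq_mul]
  rw [← mul_assoc, hd, inv_mul_cancel₀ hv]

/-- The key step: a norm one vector whose orthogonal complement is not alternating. -/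
theorem exists_good [CharP F 2] [FiniteDimensional F V] (hsq : ∀ c : F, ∃ d : F, d * d = c) (B : LinearMap.BilinForm F V)
    (hS : B.IsSymm) (hB : B.Nondegenerate) (hna : ∃ v : V, B v v ≠ 0)
    (hn : 2 ≤ Module.finrank F V) : ∃ v : V, B v v = 1 ∧ ∃ w, B v w = 0 ∧ B w w ≠ 0 := by
  have h2 : (2 : F) = 0 := CharTwo.two_eq_zero
  have hsym : ∀ x y, B x y = B y x := fun x y => by rw [← hS.eq]
  obtain ⟨v, hv⟩ := exists_self_eq_one hsq B hna
  by_cases h : ∃ w, B v w = 0 ∧ B w w ≠ 0
  · exact ⟨v, hv, h⟩
  push Not at h
  have hv0 : B v v ≠ 0 := by rw [hv]; exact one_ne_zero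
  have hW := LinearMap.BilinForm.restrict_nondegenerate_orthogonal_spanSingleton B hB
      hS.isRefl hv0
  have hfin : Module.finrank F (B.orthogonal (F ∙ v)) = Module.finrank F V - 1 := by
    rw [LinearMap.BilinForm.finrank_orthogonal hB, finrank_span_singleton]
    rintro rfl; exact hv0 (by simp)
  have : Nontrivial (B.orthogonal (F ∙ v)) :=
    Module.nontrivial_of_finrank_pos (R := F) (by omega)
  obtain ⟨e, he⟩ := exists_ne (0 : B.orthogonal (F ∙ v))
  have hf : ∃ f : B.orthogonal (F ∙ v), B e f ≠ 0 := by
    by_contra hcon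
    push Not at hcon
    exact he (hW.1 e (fun y => hcon y))
  obtain ⟨f, hf⟩ := hf
  have hve : B v e = 0 := e.2 v (Submodule.mem_span_singleton_self v)
  have hvf : B v f = 0 := f.2 v (Submodule.mem_span_singleton_self v)
  have hee : B (e : V) e = 0 := h e hve
  have hff : B (f : V) f = 0 := h f hvf
  -- rescale
  set c := (B (e : V) f)⁻¹ with hc
  have hcf : B (e : V) (c • (f : V)) = 1 := by
    rw [map_smul, smul_eq_mul, hc, inv_mul_cancel₀ hf]
  refine ⟨v + e, ?_, v + c • (f : V), ?_, ?_⟩
  · simp only [map_add, LinearMap.add_apply, hv, hve, hee, hsym e v]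
    ring
  · simp only [map_add, LinearMap.add_apply] at hcf ⊢
    rw [hcf, hv, map_smul, hvf, hsym e v, hve, smul_zero]
    linear_combination h2
  · simp only [map_add, LinearMap.add_apply, map_smul, LinearMap.smul_apply, hv, hvf, hff,
      hsym f v]
    simp

end

/-- Family version. -/
theorem exists_family {F : Type*} [Field F] [CharP F 2] (hsq : ∀ c : F, ∃ d : F, d * d = c)
    (n : ℕ) : ∀ {V : Type*} [AddCommGroup V] [Module F V]
    [FiniteDimensional F V] (B : LinearMap.BilinForm F V), B.IsSymm → B.Nondegenerate →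
    Module.finrank F V = n + 1 → (∃ v : V, B v v ≠ 0) →
    ∃ b : Fin (n + 1) → V, ∀ i j, B (b i) (b j) = if i = j then 1 else 0 := by
  induction n with
  | zero =>
    intro V _ _ _ B hS hB hn hna
    obtain ⟨v, hv⟩ := exists_self_eq_one hsq B hna
    refine ⟨fun _ => v, fun i j => ?_⟩
    have hij : i = j := Fin.ext (by omega)
    rw [if_pos hij, hv]
  | succ n ih =>
    intro V _ _ _ B hS hB hn hna
    obtain ⟨v, hv, w, hvw, hww⟩ := exists_good hsq B hS hB hna (by omega)
    have hv0 : B v v ≠ 0 := by rw [hv]; exact one_ne_zero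
    have hW := LinearMap.BilinForm.restrict_nondegenerate_orthogonal_spanSingleton B hB
      hS.isRefl hv0
    have hfin : Module.finrank F (B.orthogonal (F ∙ v)) = n + 1 := by
      rw [LinearMap.BilinForm.finrank_orthogonal hB, finrank_span_singleton, hn]
      · rfl
      · rintro rfl; exact hv0 (by simp)
    have hwm : w ∈ B.orthogonal (F ∙ v) := by
      intro x hx
      obtain ⟨c, rfl⟩ := Submodule.mem_span_singleton.1 hx
      change B (c • v) w = 0
      rw [map_smul, LinearMap.smul_apply, hvw, smul_zero]
    obtain ⟨b, hb⟩ := ih (B.restrict (B.orthogonal (F ∙ v)))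
      (hS.restrict _) hW hfin ⟨⟨w, hwm⟩, hww⟩
    have hvb : ∀ i, B v (b i) = 0 := fun i =>
      (b i).2 v (Submodule.mem_span_singleton_self v)
    have hbv : ∀ i, B (b i) v = 0 := fun i => by rw [← hS.eq]; exact hvb i
    refine ⟨Fin.cons v (fun i => (b i : V)), ?_⟩
    intro i j
    refine Fin.cases ?_ (fun i => ?_) i <;> refine Fin.cases ?_ (fun j => ?_) j
    · simpa using hv
    · rw [if_neg (Fin.succ_ne_zero j).symm]
      simpa using hvb j
    · rw [if_neg (Fin.succ_ne_zero i)]
      simpa using hbv i
    · have := hb i j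
      simp only [Fin.cons_succ, Fin.succ_inj]
      simpa using this

/-- **Normal form.** A non-degenerate symmetric bilinear form over a field of characteristic two in
which every element is a square which is not alternating has an orthonormal basis. -/
theorem exists_orthonormal_basis {F V : Type*} [Field F] [CharP F 2]
    (hsq : ∀ c : F, ∃ d : F, d * d = c) [AddCommGroup V]
    [Module F V] [FiniteDimensional F V] {n : ℕ} (hn : Module.finrank F V = n)
    (B : LinearMap.BilinForm F V)
    (hS : B.IsSymm) (hB : B.Nondegenerate) (hna : ∃ v : V, B v v ≠ 0) :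
    ∃ b : Module.Basis (Fin n) F V, ∀ i j, B (b i) (b j) = if i = j then 1 else 0 := by
  obtain _ | n := n
  · exfalso
    obtain ⟨v, hv⟩ := hna
    have := Module.finrank_zero_iff.1 hn
    exact hv (by rw [Subsingleton.elim v 0]; simp)
  obtain ⟨b, hb⟩ := exists_family hsq n B hS hB hn hna
  have hli : LinearIndependent F b :=
    LinearMap.BilinForm.linearIndependent_of_iIsOrtho (B := B)
      (fun i j hij => by change B (b i) (b j) = 0; rw [hb, if_neg hij])
      (fun i => by rw [hb, if_pos rfl]; exact one_ne_zero)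
  refine ⟨basisOfLinearIndependentOfCardEqFinrank hli (by simp [hn]), ?_⟩
  simpa using hb

end Cfsg.Agent.H176.SymmCharTwo
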