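import Mathlib
import Cfsg.Agent.S0749
import Cfsg.Agent.S0752
import Cfsg.Agent.H176.SymmCharTwo

set_option autoImplicit false

/-!
Characteristic two: self-adjoint maps `a` of square zero of a non-degenerate alternating space `(V, f)`
(`1 + a` is an isometry of order two). Up to isometry `a` is determined by its rank and by whether
`f v (a v)` vanishes identically.

* `exists_family_nonalt`, `exists_family_alt`: normal form of the symmetric form `f v (a w)`;
* `adjust`: the vectors of the family may be chosen mutually orthogonal;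
* `exists_isometry`: two maps with the same Gram matrix are conjugate under an isometry;
* `exists_conj`: the classification.
-/

namespace Cfsg.Agent.H176.SqZeroAlt

open Module

section
variable {F V : Type*} [Field F] [AddCommGroup V] [Module F V]
  (f : LinearMap.BilinForm F V) (a : V →ₗ[F] V)

/-- The form `f v (a w)` on a complement `W` of `ker a`. -/
def form (W : Submodule F V) : LinearMap.BilinForm F W :=
  (f.compRight a).restrict W

theorem form_apply (W : Submodule F V) (u v : W) : form f a W u v = f u (a v) := rfl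

variable {f a}

theorem symm_of [CharP F 2] (hA : f.IsAlt) (u v : V) : f u v = f v u := by
  have h := LinearMap.IsAlt.neg hA u v
  rw [CharTwo.neg_eq] at h
  exact h

theorem form_isSymm [CharP F 2] (hA : f.IsAlt) (had : ∀ x y, f (a x) y = f x (a y))
    (W : Submodule F V) : (form f a W).IsSymm := by
  refine ⟨fun u v => ?_⟩
  rw [form_apply, form_apply, ← had, symm_of hA]

theorem form_nondegenerate [CharP F 2] (hA : f.IsAlt) (hf : f.Nondegenerate)
    (had : ∀ x y, f (a x) y = f x (a y)) {W : Submodule F V}
    (hW : IsCompl W (LinearMap.ker a)) [FiniteDimensional F V] : (form f a W).Nondegenerate := by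
  have key : ∀ u : W, (∀ v : W, form f a W u v = 0) → u = 0 := by
    intro u hu
    have h1 : ∀ v : V, f u (a v) = 0 := by
      intro v
      have hv : v ∈ W ⊔ LinearMap.ker a := by rw [hW.sup_eq_top]; trivial
      obtain ⟨w, hw, k, hk, rfl⟩ := Submodule.mem_sup.1 hv
      rw [map_add, LinearMap.mem_ker.1 hk, add_zero]
      exact hu ⟨w, hw⟩
    have h2 : a u = 0 := by
      apply hf.1
      intro v
      rw [had]
      exact h1 v
    have h3 : (u : V) ∈ W ⊓ LinearMap.ker a := ⟨u.2, h2⟩
    rw [hW.inf_eq_bot] at h3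
    exact Subtype.ext ((Submodule.mem_bot F).1 h3)
  refine ⟨key, ?_⟩
  intro v hv
  apply key
  intro u
  rw [form_apply, ← had, symm_of hA, ← form_apply f a W]
  exact hv u

theorem finrank_compl [FiniteDimensional F V] {W : Submodule F V}
    (hW : IsCompl W (LinearMap.ker a)) : finrank F W = finrank F (LinearMap.range a) := by
  have h1 := LinearMap.finrank_range_add_finrank_ker a
  have h2 := Submodule.finrank_add_eq_of_isCompl hW
  omega

/-- Non-alternating case. -/
theorem exists_family_nonalt [CharP F 2] (hsq : ∀ c : F, ∃ d : F, d * d = c) (hA : f.IsAlt)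
    (hf : f.Nondegenerate) (had : ∀ x y, f (a x) y = f x (a y)) [FiniteDimensional F V]
    {s : ℕ} (hs : finrank F (LinearMap.range a) = s) (hna : ∃ v, f v (a v) ≠ 0) :
    ∃ x : Fin s → V, ∀ i j, f (x i) (a (x j)) = (1 : Matrix (Fin s) (Fin s) F) i j := by
  obtain ⟨W, hW⟩ := Submodule.exists_isCompl (LinearMap.ker a)
  have hna' : ∃ v : W, form f a W v v ≠ 0 := by
    obtain ⟨v, hv⟩ := hna
    have hv' : v ∈ W ⊔ LinearMap.ker a := by rw [hW.symm.sup_eq_top]; trivial
    obtain ⟨w, hw, k, hk, rfl⟩ := Submodule.mem_sup.1 hv'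
    refine ⟨⟨w, hw⟩, ?_⟩
    rw [form_apply]
    have hk' := LinearMap.mem_ker.1 hk
    rw [map_add a, hk', add_zero, map_add, LinearMap.add_apply, ← had k, hk',
      map_zero, LinearMap.zero_apply, add_zero] at hv
    exact hv
  obtain ⟨b, hb⟩ := SymmCharTwo.exists_orthonormal_basis hsq
    ((finrank_compl hW.symm).trans hs) (form f a W) (form_isSymm hA had W)
    (form_nondegenerate hA hf had hW.symm) hna'
  refine ⟨fun i => b i, fun i j => ?_⟩
  have := hb i j
  rw [form_apply] at this
  rw [this, Matrix.one_apply]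

/-- Alternating case. -/
theorem exists_family_alt [CharP F 2] (hA : f.IsAlt)
    (hf : f.Nondegenerate) (had : ∀ x y, f (a x) y = f x (a y)) [FiniteDimensional F V]
    (halt : ∀ v, f v (a v) = 0) :
    ∃ k : ℕ, finrank F (LinearMap.range a) = k + k ∧
      ∃ x : Fin k ⊕ Fin k → V, ∀ i j, f (x i) (a (x j)) = Matrix.J (Fin k) F i j := by
  obtain ⟨W, hW⟩ := Submodule.exists_isCompl (LinearMap.ker a)
  obtain ⟨m, k, b, h1, h2, h3, h4⟩ := Cfsg.Agent.S0752.result (form f a W)
    (fun v => by rw [form_apply]; exact halt v)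
  have hnd := form_nondegenerate hA hf had hW.symm
  have hk : k = 0 := by
    by_contra hk
    have h5 := hnd.1 (b (Sum.inr ⟨0, Nat.pos_of_ne_zero hk⟩)) (h4 _)
    exact b.ne_zero _ h5
  subst hk
  refine ⟨m, ?_, fun i => b (Sum.inl i), ?_⟩
  · rw [← finrank_compl hW.symm, finrank_eq_card_basis b]
    simp
  · have hsym := form_isSymm hA had W
    have hneg : ∀ c : F, -c = c := fun c => CharTwo.neg_eq c
    rintro (i | i) (j | j)
    · have := h2 i j
      rw [form_apply] at this
      rw [this, Matrix.J, Matrix.fromBlocks_apply₁₁]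
      rfl
    · have := h1 i j
      rw [form_apply] at this
      rw [this, Matrix.J, Matrix.fromBlocks_apply₁₂, Matrix.neg_apply, hneg, Matrix.one_apply]
    · have := h1 j i
      rw [← hsym.eq, form_apply] at this
      rw [this, Matrix.J, Matrix.fromBlocks_apply₂₁, Matrix.one_apply]
      simp only [eq_comm]
    · have := h3 i j
      rw [form_apply] at this
      rw [this, Matrix.J, Matrix.fromBlocks_apply₂₂]
      rfl

/-- The vectors may be chosen mutually orthogonal. -/
theorem adjust [CharP F 2] (hA : f.IsAlt)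
    (had : ∀ x y, f (a x) y = f x (a y)) (haa : ∀ x, a (a x) = 0)
    {ι : Type*} [Fintype ι] [DecidableEq ι] (M : Matrix ι ι F) (hM : IsUnit M.det)
    (x : ι → V) (hx : ∀ i j, f (x i) (a (x j)) = M i j) :
    ∃ x' : ι → V, (∀ i, a (x' i) = a (x i)) ∧ (∀ i j, f (x' i) (x' j) = 0) ∧
      (∀ i j, f (x' i) (a (x' j)) = M i j) := by
  classical
  have hsym := symm_of (f := f) hA
  have hMs : ∀ i j, M i j = M j i := fun i j => by
    rw [← hx, ← hx, ← had, hsym]
  let e := Fintype.equivFin ι
  let d : Matrix ι ι F := fun i j => if e i < e j then f (x i) (x j) else 0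
  let c := d * M⁻¹
  have hcM : c * M = d := by
    rw [Matrix.mul_assoc, Matrix.nonsing_inv_mul _ hM, Matrix.mul_one]
  have hzero : ∀ i j, f (a (x i)) (a (x j)) = 0 := fun i j => by
    rw [had, haa, map_zero]
  let x' : ι → V := fun i => x i + ∑ k, c i k • a (x k)
  have hax' : ∀ i, a (x' i) = a (x i) := by
    intro i
    simp only [x', map_add, map_sum, map_smul, haa, smul_zero, Finset.sum_const_zero, add_zero]
  have h1 : ∀ i j, f (x i) (∑ k, c j k • a (x k)) = d j i := by
    intro i j
    rw [map_sum, ← hcM, Matrix.mul_apply]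
    refine Finset.sum_congr rfl fun k _ => ?_
    rw [map_smul, smul_eq_mul, hx, hMs]
  have h2 : ∀ i j, f (∑ k, c i k • a (x k)) (∑ k, c j k • a (x k)) = 0 := by
    intro i j
    rw [map_sum]
    refine Finset.sum_eq_zero fun k _ => ?_
    rw [map_smul, map_sum, LinearMap.sum_apply]
    rw [Finset.sum_eq_zero (fun l _ => by
      rw [map_smul, LinearMap.smul_apply, hzero, smul_zero]), smul_zero]
  refine ⟨x', hax', ?_, ?_⟩
  · intro i j
    simp only [x', map_add, LinearMap.add_apply]
    rw [h1, h2, hsym (∑ k, c i k • a (x k)) (x j), h1]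
    have h2' : ∀ z : F, z + z = 0 := fun z => CharTwo.add_self_eq_zero z
    rcases lt_trichotomy (e i) (e j) with h | h | h
    · have h' : ¬ e j < e i := h.asymm
      simp only [d, if_pos h, if_neg h', add_zero]
      exact h2' _
    · have hij := e.injective h
      subst hij
      simp only [d, lt_irrefl, if_false, add_zero]
      exact hA _
    · have h' : ¬ e i < e j := h.asymm
      simp only [d, if_pos h, if_neg h', add_zero]
      rw [hsym (x j) (x i)]
      exact h2' _
  · intro i j
    rw [hax' j, ← had, hax' i, had, hx]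

/-- Linear independence from the Gram matrix. -/
theorem linearIndependent_of_gram
    (had : ∀ x y, f (a x) y = f x (a y)) (haa : ∀ x, a (a x) = 0)
    {ι : Type*} [Fintype ι] [DecidableEq ι] (M : Matrix ι ι F) (hM : IsUnit M.det)
    (x : ι → V) (hx : ∀ i j, f (x i) (a (x j)) = M i j) :
    LinearIndependent F (Sum.elim x (fun i => a (x i))) := by
  have key : ∀ c : ι → F, (∀ j, ∑ i, c i * M i j = 0) → ∀ i, c i = 0 := by
    intro c hc i
    have h1 : Matrix.vecMul c M = 0 := by
      funext j
      exact hc j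
    have h2 : c = Matrix.vecMul (Matrix.vecMul c M) M⁻¹ := by
      rw [Matrix.vecMul_vecMul, Matrix.mul_nonsing_inv _ hM, Matrix.vecMul_one]
    rw [h2, h1, Matrix.zero_vecMul]
    rfl
  rw [Fintype.linearIndependent_iff]
  intro g hg
  rw [Fintype.sum_sum_type] at hg
  simp only [Sum.elim_inl, Sum.elim_inr] at hg
  have h1 : ∀ i, g (Sum.inl i) = 0 := by
    apply key
    intro j
    have h2 := congrArg (fun v => f v (a (x j))) hg
    simp only [map_add, map_sum, map_smul, LinearMap.add_apply, LinearMap.sum_apply,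
      LinearMap.smul_apply, smul_eq_mul, map_zero, LinearMap.zero_apply] at h2
    rw [Finset.sum_eq_zero (s := Finset.univ) (f := fun i => g (Sum.inr i) * (f (a (x i))) (a (x j)))
      (fun i _ => by rw [had, haa, map_zero, mul_zero]), add_zero] at h2
    rw [← h2]
    exact Finset.sum_congr rfl fun i _ => by rw [hx]
  have h3 : ∀ i, g (Sum.inr i) = 0 := by
    apply key
    intro j
    rw [Finset.sum_eq_zero (fun i _ => by rw [h1 i, zero_smul]), zero_add] at hg
    have h2 := congrArg (fun v => f v (x j)) hg
    simp only [map_sum, map_smul, LinearMap.sum_apply,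
      LinearMap.smul_apply, smul_eq_mul, map_zero, LinearMap.zero_apply] at h2
    rw [← h2]
    exact Finset.sum_congr rfl fun i _ => by rw [had, hx]
  rintro (i | i)
  · exact h1 i
  · exact h3 i

/-- Two maps with the same Gram matrix are conjugate under an isometry. -/
theorem exists_isometry [FiniteDimensional F V] (hA : f.IsAlt) (hf : f.Nondegenerate)
    {a' : V →ₗ[F] V}
    (had : ∀ x y, f (a x) y = f x (a y)) (haa : ∀ x, a (a x) = 0)
    (had' : ∀ x y, f (a' x) y = f x (a' y)) (haa' : ∀ x, a' (a' x) = 0)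
    {ι : Type*} [Fintype ι] [DecidableEq ι] (M : Matrix ι ι F) (hM : IsUnit M.det)
    (x x' : ι → V) (hx : ∀ i j, f (x i) (a (x j)) = M i j)
    (hx' : ∀ i j, f (x' i) (a' (x' j)) = M i j)
    (h0 : ∀ i j, f (x i) (x j) = 0) (h0' : ∀ i j, f (x' i) (x' j) = 0)
    (hr : finrank F (LinearMap.range a) = Fintype.card ι)
    (hr' : finrank F (LinearMap.range a') = Fintype.card ι) :
    ∃ g : V ≃ₗ[F] V, (∀ u v, f (g u) (g v) = f u v) ∧ ∀ v, g (a v) = a' (g v) := by
  classical
  have hli := linearIndependent_of_gram had haa M hM x hx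
  have hli' := linearIndependent_of_gram had' haa' M hM x' hx'
  set z := Sum.elim x (fun i => a (x i)) with hz
  set z' := Sum.elim x' (fun i => a' (x' i)) with hz'
  let b := Basis.span hli
  let b' := Basis.span hli'
  let φ := b.equiv b' (Equiv.refl _)
  have hb : ∀ i, (b i : V) = z i := fun i => congrArg Subtype.val (Basis.span_apply hli i)
  have hb' : ∀ i, (b' i : V) = z' i := fun i => congrArg Subtype.val (Basis.span_apply hli' i)
  have hφ : ∀ i, (φ (b i) : V) = z' i := by
    intro i
    rw [Basis.equiv_apply, Equiv.refl_apply, hb']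
  have hgram : ∀ i j, f (z i) (z j) = f (z' i) (z' j) := by
    rintro (i | i) (j | j)
    · simp only [hz, hz', Sum.elim_inl]
      rw [h0, h0']
    · simp only [hz, hz', Sum.elim_inl, Sum.elim_inr]
      rw [hx, hx']
    · simp only [hz, hz', Sum.elim_inl, Sum.elim_inr]
      rw [had, had', hx, hx']
    · simp only [hz, hz', Sum.elim_inr]
      rw [had, had', haa, haa', map_zero, map_zero]
  have hiso : ∀ u v : Submodule.span F (Set.range z), f (φ u : V) (φ v : V) = f (u : V) (v : V) := by
    let B1 : LinearMap.BilinForm F (Submodule.span F (Set.range z)) :=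
      f.compl₁₂ ((Submodule.subtype _) ∘ₗ φ.toLinearMap) ((Submodule.subtype _) ∘ₗ φ.toLinearMap)
    let B2 : LinearMap.BilinForm F (Submodule.span F (Set.range z)) :=
      f.compl₁₂ (Submodule.subtype _) (Submodule.subtype _)
    have hB : B1 = B2 := by
      refine b.ext fun i => b.ext fun j => ?_
      change f (φ (b i) : V) (φ (b j) : V) = f (b i : V) (b j : V)
      rw [hφ, hφ, hb, hb, hgram]
    intro u v
    exact congrArg (fun B : LinearMap.BilinForm F (Submodule.span F (Set.range z)) => B u v) hB
  obtain ⟨g, hg, hgφ⟩ := Cfsg.Agent.S0749.result f hf hA _ _ φ hiso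
  have hgz : ∀ i, g (z i) = z' i := by
    intro i
    rw [← hb, hgφ, hφ]
  have hgx : ∀ i, g (x i) = x' i := fun i => hgz (Sum.inl i)
  have hgax : ∀ i, g (a (x i)) = a' (x' i) := fun i => hgz (Sum.inr i)
  refine ⟨g, hg, ?_⟩
  -- `range a'` is spanned by the `a' (x' i)`
  have hspan' : LinearMap.range a' = Submodule.span F (Set.range fun i => a' (x' i)) := by
    have hli2 : LinearIndependent F (fun i => a' (x' i)) :=
      hli'.comp Sum.inr Sum.inr_injective
    symm
    apply Submodule.eq_of_le_of_finrank_eq
    · rw [Submodule.span_le]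
      rintro _ ⟨i, rfl⟩
      exact ⟨_, rfl⟩
    · rw [finrank_span_eq_card hli2, hr']
  have hspan : LinearMap.range a = Submodule.span F (Set.range fun i => a (x i)) := by
    have hli2 : LinearIndependent F (fun i => a (x i)) :=
      hli.comp Sum.inr Sum.inr_injective
    symm
    apply Submodule.eq_of_le_of_finrank_eq
    · rw [Submodule.span_le]
      rintro _ ⟨i, rfl⟩
      exact ⟨_, rfl⟩
    · rw [finrank_span_eq_card hli2, hr]
  intro v
  -- write `a v = ∑ c i a (x i)`; then `v - ∑ c i x i ∈ ker a`
  have hav : a v ∈ Submodule.span F (Set.range fun i => a (x i)) := by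
    rw [← hspan]; exact ⟨v, rfl⟩
  obtain ⟨c, hc⟩ := (Submodule.mem_span_range_iff_exists_fun F).1 hav
  set w := ∑ i, c i • x i with hw
  have haw : a w = a v := by
    rw [hw, map_sum, ← hc]
    exact Finset.sum_congr rfl fun i _ => by rw [map_smul]
  have hgw : g (a w) = a' (g w) := by
    rw [hw]
    simp only [map_sum, map_smul, hgax, hgx]
  have hk : a (v - w) = 0 := by rw [map_sub, haw, sub_self]
  have hk' : a' (g (v - w)) = 0 := by
    apply hf.1
    intro y
    rw [had']
    have hy : a' y ∈ Submodule.span F (Set.range fun i => a' (x' i)) := by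
      rw [← hspan']; exact ⟨y, rfl⟩
    obtain ⟨c', hc'⟩ := (Submodule.mem_span_range_iff_exists_fun F).1 hy
    rw [← hc', map_sum]
    refine Finset.sum_eq_zero fun i _ => ?_
    rw [map_smul, ← hgax, hg, ← had, hk, map_zero, LinearMap.zero_apply, smul_zero]
  have hvw : v = w + (v - w) := by abel
  rw [← haw, hgw]
  conv_rhs => rw [hvw, map_add, map_add, hk', add_zero]

/-- **Classification.** Self-adjoint maps of square zero with the same rank and the same type are
conjugate under an isometry. -/
theorem exists_conj [CharP F 2] (hsq : ∀ c : F, ∃ d : F, d * d = c) [FiniteDimensional F V]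
    (hA : f.IsAlt) (hf : f.Nondegenerate) {a' : V →ₗ[F] V}
    (had : ∀ x y, f (a x) y = f x (a y)) (haa : ∀ x, a (a x) = 0)
    (had' : ∀ x y, f (a' x) y = f x (a' y)) (haa' : ∀ x, a' (a' x) = 0)
    (hr : finrank F (LinearMap.range a) = finrank F (LinearMap.range a'))
    (ht : (∀ v, f v (a v) = 0) ↔ (∀ v, f v (a' v) = 0)) :
    ∃ g : V ≃ₗ[F] V, (∀ u v, f (g u) (g v) = f u v) ∧ ∀ v, g (a v) = a' (g v) := by
  classical
  by_cases h : ∀ v, f v (a v) = 0
  · have h' := ht.1 h
    obtain ⟨k, hk, x, hx⟩ := exists_family_alt hA hf had h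
    obtain ⟨k', hk', x', hx'⟩ := exists_family_alt hA hf had' h'
    have hkk : k' = k := by omega
    subst hkk
    have hJ : IsUnit (Matrix.J (Fin k') F).det := Matrix.isUnit_det_J _ _
    obtain ⟨y, -, hy1, hy2⟩ := adjust hA had haa _ hJ x hx
    obtain ⟨y', -, hy1', hy2'⟩ := adjust hA had' haa' _ hJ x' hx'
    exact exists_isometry hA hf had haa had' haa' _ hJ y y' hy2 hy2' hy1 hy1'
      (by rw [hk]; simp) (by rw [hk']; simp)
  · have h' : ¬ ∀ v, f v (a' v) = 0 := fun h2 => h (ht.2 h2)
    push Not at h h'
    obtain ⟨x, hx⟩ := exists_family_nonalt hsq hA hf had rfl h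
    obtain ⟨x', hx'⟩ := exists_family_nonalt hsq hA hf had' hr.symm h'
    have h1 : IsUnit (1 : Matrix (Fin (finrank F (LinearMap.range a)))
      (Fin (finrank F (LinearMap.range a))) F).det := by
      rw [Matrix.det_one]; exact isUnit_one
    obtain ⟨y, -, hy1, hy2⟩ := adjust hA had haa _ h1 x hx
    obtain ⟨y', -, hy1', hy2'⟩ := adjust hA had' haa' _ h1 x' hx'
    exact exists_isometry hA hf had haa had' haa' _ h1 y y' hy2 hy2' hy1 hy1'
      (by simp) (by rw [← hr]; simp)

end

end Cfsg.Agent.H176.SqZeroAlt
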